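import Groth.Agent.DispTwenty.Nilp

/-!
# Base change of 3n-displays
-/

set_option autoImplicit false
set_option linter.style.haveILetI false
universe u v

namespace Groth.Agent.DispTwenty

variable {p : ℕ} [Fact p.Prime] {S R : Type u} [CommRing S] [CommRing R] (f : S →+* R)
  {P : Type v} [AddCommGroup P] [Module (WittVector p S) P] {D : W4c1extbt610.Display3n p S P} {r : ℕ}

local notation "W" => WittVector p R
local notation "σ" => (WittVector.frobenius : WittVector p R →+* WittVector p R)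
local notation "σS" => (WittVector.frobenius : WittVector p S →+* WittVector p S)
local notation "φ" => (WittVector.map f : WittVector p S →+* WittVector p R)

/-- The preimage under Verschiebung (meaningful on the augmentation ideal). -/
noncomputable def unV (a : W) : W := a.shift 1

theorem verschiebung_unV {a : W} (h : a ∈ W4c1extbt610.IV p R) : WittVector.verschiebung (unV a) = a := by
  have e := WittVector.eq_iterate_verschiebung (x := a) (n := 1) (fun i hi => by
    obtain rfl : i = 0 := Nat.lt_one_iff.1 hi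
    exact coeff_zero_of_mem_IV h)
  rw [Function.iterate_one] at e
  exact e.symm

theorem unV_eq {a b : W} (h : WittVector.verschiebung b = a) : unV a = b := by
  refine WittVector.verschiebung_injective p R ?_
  rw [h, verschiebung_unV (h ▸ W4c1extbt610.verschiebung_mem_IV p R b)]

theorem map_mem_IV {a : WittVector p S} (h : a ∈ W4c1extbt610.IV p S) : φ a ∈ W4c1extbt610.IV p R := by
  refine mem_IV_of_coeff_zero ?_
  rw [WittVector.map_coeff, coeff_zero_of_mem_IV h, map_zero]

variable {π : (Fin r → WittVector p S) →ₗ[WittVector p S] P} {s : P →ₗ[WittVector p S] (Fin r → WittVector p S)}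

theorem sum_frobenius (h : π ∘ₗ s = LinearMap.id) (ψ : P →ₛₗ[σS] P) (w : W) (x : P) :
    ∑ j, σ (coord φ s (Dieu.BC.tmul φ w x) j) • Dieu.BC.tmul φ 1 (ψ (gen π j)) =
      Dieu.BC.tmul φ (σ w) (ψ x) := by
  conv_rhs => rw [← sum_smul_gen h x, map_sum, tmul_sum]
  refine Finset.sum_congr rfl fun j _ => ?_
  rw [coord_tmul, map_mul, ← map_frobenius_comm, map_smulₛₗ, tmul_smul_right]

theorem IV_smul_le_ker :
    W4c1extbt610.IV p R • (⊤ : Submodule W (Dieu.BC φ P)) ≤ LinearMap.ker (Dieu.bcQuotMap f D.Q) := by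
  refine Submodule.smul_le.2 fun a ha z _ => ?_
  rw [LinearMap.mem_ker, map_smulₛₗ, show (WittVector.constantCoeff : W →+* R) a = 0 from coeff_zero_of_mem_IV ha,
    zero_smul]

theorem tmul_mem_ker (w : W) {y : P} (hy : y ∈ D.Q) :
    Dieu.BC.tmul φ w y ∈ LinearMap.ker (Dieu.bcQuotMap f D.Q) := by
  rw [LinearMap.mem_ker, Dieu.bcQuotMap_tmul, Submodule.mkQ_apply, (Submodule.Quotient.mk_eq_zero _).2 hy,
    Dieu.BC.tmul_zero]

theorem verschiebung_tmul_mem_ker (w : W) (x : P) :
    Dieu.BC.tmul φ (WittVector.verschiebung w) x ∈ LinearMap.ker (Dieu.bcQuotMap f D.Q) := by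
  rw [LinearMap.mem_ker, Dieu.bcQuotMap_tmul,
    show (WittVector.constantCoeff : W →+* R) (WittVector.verschiebung w) = 0 from
      WittVector.verschiebung_coeff_zero w, Dieu.BC.zero_tmul]

theorem coord_T_mem (Sp : Split D) (s : P →ₗ[WittVector p S] (Fin r → WittVector p S))
    {z : Dieu.BC φ P} (hz : z ∈ LinearMap.ker (Dieu.bcQuotMap f D.Q)) (j : Fin r) :
    coord φ s (Dieu.BC.map φ Sp.πT z) j ∈ W4c1extbt610.IV p R := by
  let c : WittVector p S →+* R := (WittVector.constantCoeff : W →+* R).comp φ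
  let e₀ : P →ₛₗ[c] R :=
    { toFun := fun x => c (s (Sp.πT x) j)
      map_add' := fun x y => by simp
      map_smul' := fun a x => by simp }
  have h0 : D.Q ≤ LinearMap.ker e₀ := fun y hy => by
    show c (s (Sp.πT y) j) = 0
    refine Submodule.smul_induction_on (Sp.T_smul y hy) (fun a ha x _ => ?_) (fun x x' hx hx' => ?_)
    · rw [map_smul, Pi.smul_apply, smul_eq_mul, map_mul,
        show c a = 0 from coeff_zero_of_mem_IV (map_mem_IV f ha), zero_mul]
    · rw [map_add, Pi.add_apply, map_add, hx, hx', add_zero]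
  have key : ∀ z : Dieu.BC φ P, Dieu.BC.lift c (D.Q.liftQ e₀ h0) (Dieu.bcQuotMap f D.Q z) =
      (WittVector.constantCoeff : W →+* R) (coord φ s (Dieu.BC.map φ Sp.πT z) j) := by
    intro z
    induction z using Dieu.BC.induction_on φ with
    | zero => simp
    | tmul b x =>
      rw [Dieu.bcQuotMap_tmul, Dieu.BC.map_tmul, coord_tmul, map_mul, Submodule.mkQ_apply]
      exact (Dieu.BC.lift_tmul _ _ _ _).trans rfl
    | add z₁ z₂ h₁ h₂ => simp only [map_add, Pi.add_apply, h₁, h₂]
  refine mem_IV_of_coeff_zero ?_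
  have := key z
  rw [LinearMap.mem_ker.1 hz, map_zero] at this
  exact this.symm

theorem map_L_add_T (Sp : Split D) (z : Dieu.BC φ P) :
    Dieu.BC.map φ Sp.πL z + Dieu.BC.map φ Sp.πT z = z := by
  induction z using Dieu.BC.induction_on φ with
  | zero => simp
  | tmul b x => rw [Dieu.BC.map_tmul, Dieu.BC.map_tmul, ← Dieu.BC.tmul_add, Sp.sum_eq]
  | add z₁ z₂ h₁ h₂ =>
    simp only [map_add]
    rw [add_add_add_comm, h₁, h₂]

theorem exists_decomp (Sp : Split D) (h : π ∘ₗ s = LinearMap.id) {z : Dieu.BC φ P}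
    (hz : z ∈ LinearMap.ker (Dieu.bcQuotMap f D.Q)) : ∃ a b : Fin r → W,
      z = ∑ j, a j • Dieu.BC.tmul φ 1 (Sp.πL (gen π j)) +
        ∑ j, Dieu.BC.tmul φ (WittVector.verschiebung (b j)) (gen π j) := by
  refine ⟨fun j => coord φ s z j, fun j => unV (coord φ s (Dieu.BC.map φ Sp.πT z) j), ?_⟩
  conv_lhs => rw [← map_L_add_T f Sp z]
  congr 1
  · conv_lhs => rw [← sum_coord φ h z]
    simp only [map_sum, map_smul, Dieu.BC.map_tmul]
  · conv_lhs => rw [← sum_coord φ h (Dieu.BC.map φ Sp.πT z)]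
    refine Finset.sum_congr rfl fun j _ => ?_
    rw [verschiebung_unV (coord_T_mem f Sp s hz j), ← Dieu.BC.tmul_eq_smul_tmul_one]

/-- `F_R`. -/
noncomputable def bcF (π : (Fin r → WittVector p S) →ₗ[WittVector p S] P)
    (s : P →ₗ[WittVector p S] (Fin r → WittVector p S)) (ψ : P →ₛₗ[σS] P) : Dieu.BC φ P →ₛₗ[σ] Dieu.BC φ P where
  toFun z := ∑ j, σ (coord φ s z j) • Dieu.BC.tmul φ 1 (ψ (gen π j))
  map_add' x y := by simp only [map_add, Pi.add_apply, add_smul, Finset.sum_add_distrib]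
  map_smul' a x := by simp only [map_smul, Pi.smul_apply, smul_eq_mul, map_mul, mul_smul, Finset.smul_sum]

/-- `V_R⁻¹`. -/
noncomputable def bcVinv (Sp : Split D) (π : (Fin r → WittVector p S) →ₗ[WittVector p S] P)
    (s : P →ₗ[WittVector p S] (Fin r → WittVector p S)) :
    LinearMap.ker (Dieu.bcQuotMap f D.Q) →ₛₗ[σ] Dieu.BC φ P where
  toFun z := bcF f π s (D.Vinv.comp (Sp.πL.codRestrict D.Q Sp.memQ)) (z : Dieu.BC φ P) +
    ∑ j, unV (coord φ s (Dieu.BC.map φ Sp.πT (z : Dieu.BC φ P)) j) • Dieu.BC.tmul φ 1 (D.F (gen π j))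
  map_add' x y := by
    have e : ∀ j, unV (coord φ s (Dieu.BC.map φ Sp.πT ((x + y : LinearMap.ker (Dieu.bcQuotMap f D.Q)) : Dieu.BC φ P)) j) =
        unV (coord φ s (Dieu.BC.map φ Sp.πT (x : Dieu.BC φ P)) j) +
          unV (coord φ s (Dieu.BC.map φ Sp.πT (y : Dieu.BC φ P)) j) := fun j => by
      refine unV_eq ?_
      rw [map_add, verschiebung_unV (coord_T_mem f Sp s x.2 j), verschiebung_unV (coord_T_mem f Sp s y.2 j),
        Submodule.coe_add, map_add, map_add, Pi.add_apply]
    simp only [e, add_smul, Finset.sum_add_distrib]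
    rw [Submodule.coe_add, map_add]
    abel
  map_smul' a x := by
    have e : ∀ j, unV (coord φ s (Dieu.BC.map φ Sp.πT ((a • x : LinearMap.ker (Dieu.bcQuotMap f D.Q)) : Dieu.BC φ P)) j) =
        σ a * unV (coord φ s (Dieu.BC.map φ Sp.πT (x : Dieu.BC φ P)) j) := fun j => by
      refine unV_eq ?_
      rw [verschiebung_frobenius_mul, verschiebung_unV (coord_T_mem f Sp s x.2 j),
        Submodule.coe_smul, map_smul, map_smul, Pi.smul_apply, smul_eq_mul]
    simp only [e, mul_smul, ← Finset.smul_sum]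
    rw [Submodule.coe_smul, map_smulₛₗ, smul_add]

theorem bcVinv_tmul (Sp : Split D) (h : π ∘ₗ s = LinearMap.id) (w : W) (y : D.Q)
    (hm : Dieu.BC.tmul φ w (y : P) ∈ LinearMap.ker (Dieu.bcQuotMap f D.Q)) :
    bcVinv f Sp π s ⟨_, hm⟩ = Dieu.BC.tmul φ (σ w) (D.Vinv y) := by
  show bcF f π s _ (Dieu.BC.tmul φ w (y : P)) + _ = _
  rw [show bcF f π s _ (Dieu.BC.tmul φ w (y : P)) = _ from sum_frobenius f h _ w (y : P)]
  have hc : ∀ j, s (Sp.πT y) j ∈ W4c1extbt610.IV p S := fun j => by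
    refine Submodule.smul_induction_on (Sp.T_smul y y.2) (fun a ha x _ => ?_) (fun x x' hx hx' => ?_)
    · rw [map_smul, Pi.smul_apply, smul_eq_mul]; exact Ideal.mul_mem_right _ _ ha
    · rw [map_add, Pi.add_apply]; exact add_mem hx hx'
  choose b hb using fun j => exists_verschiebung (hc j)
  have e : ∀ j, unV (coord φ s (Dieu.BC.map φ Sp.πT (Dieu.BC.tmul φ w (y : P))) j) = σ w * φ (b j) := fun j => by
    refine unV_eq ?_
    rw [Dieu.BC.map_tmul, coord_tmul, verschiebung_frobenius_mul, ← WittVector.map_verschiebung, hb]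
  simp only [e, ← tmul_smul_right]
  rw [← tmul_sum, LinearMap.comp_apply, ← Dieu.BC.tmul_add]
  congr 1
  have hQ : ∀ j, WittVector.verschiebung (b j) • gen π j ∈ D.Q := fun j =>
    mem_Q_smul D (W4c1extbt610.verschiebung_mem_IV p S _) _
  have e2 : ∀ j, b j • D.F (gen π j) = D.Vinv ⟨WittVector.verschiebung (b j) • gen π j, hQ j⟩ := fun j =>
    (Vinv_V_smul D _ _ _).symm
  simp only [e2, ← map_sum, ← map_add]
  refine congrArg D.Vinv (Subtype.ext ?_)
  simp only [Submodule.coe_add, Submodule.coe_sum, hb, sum_smul_gen h]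
  exact Sp.sum_eq y

theorem bcVinv_verschiebung_tmul (Sp : Split D) (h : π ∘ₗ s = LinearMap.id) (w : W) (x : P)
    (hm : Dieu.BC.tmul φ (WittVector.verschiebung w) x ∈ LinearMap.ker (Dieu.bcQuotMap f D.Q)) :
    bcVinv f Sp π s ⟨_, hm⟩ = Dieu.BC.tmul φ w (D.F x) := by
  show bcF f π s _ (Dieu.BC.tmul φ (WittVector.verschiebung w) x) + _ = _
  rw [show bcF f π s _ (Dieu.BC.tmul φ (WittVector.verschiebung w) x) = _ from sum_frobenius f h _ _ x]
  have e : ∀ j, unV (coord φ s (Dieu.BC.map φ Sp.πT (Dieu.BC.tmul φ (WittVector.verschiebung w) x)) j) =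
      w * φ (σS (s (Sp.πT x) j)) := fun j => by
    refine unV_eq ?_
    rw [Dieu.BC.map_tmul, coord_tmul, map_frobenius_comm, WittVector.verschiebung_mul_frobenius]
  simp only [e, ← tmul_smul_right, ← map_smulₛₗ]
  rw [← tmul_sum, ← map_sum, sum_smul_gen h, WittVector.frobenius_verschiebung,
    ← map_natCast (WittVector.map f : WittVector p S →+* WittVector p R) p, Dieu.BC.tmul_mul_apply,
    ← Dieu.BC.tmul_add]
  congr 1
  rw [LinearMap.comp_apply, ← F_eq D, ← map_add]
  exact congrArg D.F (Sp.sum_eq x)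

/-- The base change of a 3n-display. -/
noncomputable def bcDisplay (Sp : Split D) (h : π ∘ₗ s = LinearMap.id) :
    W4c1extbt610.Display3n p R (Dieu.BC φ P) where
  Q := LinearMap.ker (Dieu.bcQuotMap f D.Q)
  F := bcF f π s D.F
  Vinv := bcVinv f Sp π s
  finite := haveI := D.finite; haveI := D.projective; finite_bc φ
  projective := haveI := D.finite; haveI := D.projective; projective_bc φ
  IV_smul_le := IV_smul_le_ker f
  exists_normal := by
    have hTL : ∀ x, Sp.πT (Sp.πL x) = 0 := fun x => by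
      have := congrArg Sp.πT (Sp.sum_eq x)
      rwa [map_add, Sp.T_T, add_eq_right] at this
    have hTLR : ∀ z, Dieu.BC.map φ Sp.πT (Dieu.BC.map φ Sp.πL z) = 0 := fun z => by
      induction z using Dieu.BC.induction_on φ with
      | zero => simp
      | tmul b x => rw [Dieu.BC.map_tmul, Dieu.BC.map_tmul, hTL, Dieu.BC.tmul_zero]
      | add z₁ z₂ h₁ h₂ => rw [map_add, map_add, h₁, h₂, add_zero]
    have hTTR : ∀ z, Dieu.BC.map φ Sp.πT (Dieu.BC.map φ Sp.πT z) = Dieu.BC.map φ Sp.πT z := fun z => by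
      induction z using Dieu.BC.induction_on φ with
      | zero => simp
      | tmul b x => rw [Dieu.BC.map_tmul, Dieu.BC.map_tmul, Sp.T_T]
      | add z₁ z₂ h₁ h₂ => simp only [map_add, h₁, h₂]
    refine ⟨LinearMap.range (Dieu.BC.map φ Sp.πL), LinearMap.range (Dieu.BC.map φ Sp.πT), ⟨?_, ?_⟩, ?_⟩
    · rw [Submodule.disjoint_def]
      rintro _ ⟨a, rfl⟩ ⟨b, hb⟩
      rw [← hb, ← hTTR, hb, hTLR]
    · rw [codisjoint_iff, eq_top_iff]
      intro z _
      rw [← map_L_add_T f Sp z]
      exact Submodule.add_mem_sup ⟨z, rfl⟩ ⟨z, rfl⟩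
    · refine le_antisymm (fun z hz => ?_) (sup_le ?_ ?_)
      · rw [← map_L_add_T f Sp z]
        refine Submodule.add_mem_sup ⟨z, rfl⟩ ?_
        rw [← hTTR, ← sum_coord φ h (Dieu.BC.map φ Sp.πT z), map_sum]
        refine Submodule.sum_mem _ fun j _ => ?_
        rw [map_smul]
        exact Submodule.smul_mem_smul (coord_T_mem f Sp s hz j) ⟨_, rfl⟩
      · rintro _ ⟨z, rfl⟩
        induction z using Dieu.BC.induction_on φ with
        | zero => simp
        | tmul b x => rw [Dieu.BC.map_tmul]; exact tmul_mem_ker f b (Sp.memQ x)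
        | add z₁ z₂ h₁ h₂ => rw [map_add]; exact add_mem h₁ h₂
      · exact (smul_mono_right _ le_top).trans (IV_smul_le_ker f)
  span_range_Vinv := by
    rw [eq_top_iff]
    intro z hz
    clear hz
    induction z using Dieu.BC.induction_on φ with
    | zero => exact zero_mem _
    | add z₁ z₂ h₁ h₂ => exact add_mem h₁ h₂
    | tmul b x =>
      rw [Dieu.BC.tmul_eq_smul_tmul_one]
      refine Submodule.smul_mem _ _ ?_
      have hx : x ∈ Submodule.span (WittVector p S) (Set.range D.Vinv) := D.span_range_Vinv ▸ Submodule.mem_top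
      induction hx using Submodule.span_induction with
      | mem y hy =>
        obtain ⟨y, rfl⟩ := hy
        refine Submodule.subset_span ⟨⟨_, tmul_mem_ker f 1 y.2⟩, ?_⟩
        rw [bcVinv_tmul f Sp h, map_one]
      | zero => rw [Dieu.BC.tmul_zero]; exact zero_mem _
      | add x y _ _ hx hy => rw [Dieu.BC.tmul_add]; exact add_mem hx hy
      | smul a x _ hx => rw [tmul_smul_right]; exact Submodule.smul_mem _ _ hx
  Vinv_verschiebung_smul := fun w z => by
    induction z using Dieu.BC.induction_on φ with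
    | zero =>
      refine ((congrArg (bcVinv f Sp π s) (Subtype.ext (a2 := (0 : LinearMap.ker (Dieu.bcQuotMap f D.Q)))
        (smul_zero _))).trans (map_zero _)).trans ?_
      rw [map_zero, smul_zero]
    | tmul b x =>
      have hm := verschiebung_tmul_mem_ker (D := D) f (w * σ b) x
      refine (congrArg (bcVinv f Sp π s) (Subtype.ext
        (a2 := (⟨_, hm⟩ : LinearMap.ker (Dieu.bcQuotMap f D.Q))) ?_)).trans ?_
      · show WittVector.verschiebung w • Dieu.BC.tmul φ b x = Dieu.BC.tmul φ (WittVector.verschiebung (w * σ b)) x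
        rw [Dieu.BC.smul_tmul, WittVector.verschiebung_mul_frobenius]
      · rw [bcVinv_verschiebung_tmul f Sp h, show bcF f π s D.F (Dieu.BC.tmul φ b x) = _ from
          sum_frobenius f h D.F b x, Dieu.BC.smul_tmul]
    | add z₁ z₂ h₁ h₂ =>
      rw [map_add, smul_add (w : W), ← h₁, ← h₂, ← map_add]
      exact congrArg _ (Subtype.ext (smul_add _ _ _))

theorem existsUnique_bc (D : W4c1extbt610.Display3n p S P) :
    ∃! DR : W4c1extbt610.Display3n p R (Dieu.BC φ P), Dieu.IsDispBaseChange f D DR := by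
  haveI := D.finite
  haveI := D.projective
  obtain ⟨Sp⟩ := exists_split D
  obtain ⟨r, π, s, h⟩ := exists_coords (WittVector p S) P
  have h0 : Dieu.IsDispBaseChange f D (bcDisplay f Sp h) :=
    { Q_eq := rfl
      F_tmul := fun w x => sum_frobenius f h D.F w x
      Vinv_tmul := fun w y hm => bcVinv_tmul f Sp h w y hm
      Vinv_verschiebung_tmul := fun w x hm => bcVinv_verschiebung_tmul f Sp h w x hm }
  refine ⟨bcDisplay f Sp h, h0, fun DR hDR => ?_⟩
  generalize bcDisplay f Sp h = D' at h0 ⊢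
  have hQ : DR.Q = D'.Q := hDR.Q_eq.trans h0.Q_eq.symm
  have hF : DR.F = D'.F := LinearMap.ext fun z => by
    induction z using Dieu.BC.induction_on φ with
    | zero => simp
    | tmul b x => rw [hDR.F_tmul, h0.F_tmul]
    | add z₁ z₂ h₁ h₂ => rw [map_add, map_add, h₁, h₂]
  have hV : ∀ (z : Dieu.BC φ P) (hz : z ∈ DR.Q) (hz' : z ∈ D'.Q), DR.Vinv ⟨z, hz⟩ = D'.Vinv ⟨z, hz'⟩ := by
    intro z hz hz'
    obtain ⟨a, b, hab⟩ := exists_decomp f Sp h (hDR.Q_eq ▸ hz)
    have key : ∀ (E : W4c1extbt610.Display3n p R (Dieu.BC φ P)), Dieu.IsDispBaseChange f D E → ∀ hz : z ∈ E.Q,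
        E.Vinv ⟨z, hz⟩ = ∑ j, σ (a j) • Dieu.BC.tmul φ 1 (D.Vinv ⟨Sp.πL (gen π j), Sp.memQ _⟩) +
          ∑ j, Dieu.BC.tmul φ (b j) (D.F (gen π j)) := by
      intro E hE hz
      have m1 : ∀ j, Dieu.BC.tmul φ 1 (Sp.πL (gen π j)) ∈ E.Q := fun j =>
        hE.Q_eq ▸ tmul_mem_ker f 1 (Sp.memQ _)
      have m2 : ∀ j, Dieu.BC.tmul φ (WittVector.verschiebung (b j)) (gen π j) ∈ E.Q := fun j =>
        hE.Q_eq ▸ verschiebung_tmul_mem_ker f _ _
      have e : (⟨z, hz⟩ : E.Q) = ∑ j, a j • ⟨_, m1 j⟩ + ∑ j, ⟨_, m2 j⟩ :=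
        Subtype.ext (by simp only [Submodule.coe_add, Submodule.coe_sum, Submodule.coe_smul]; exact hab)
      rw [e, map_add, map_sum, map_sum]
      congr 1
      · refine Finset.sum_congr rfl fun j _ => ?_
        rw [map_smulₛₗ, hE.Vinv_tmul 1 ⟨_, Sp.memQ _⟩ (m1 j), map_one]
      · exact Finset.sum_congr rfl fun j _ => hE.Vinv_verschiebung_tmul _ _ _
    rw [key DR hDR, key D' h0]
  cases DR with
  | mk Q F Vinv _ _ _ _ _ _ =>
    cases D' with
    | mk Q' F' Vinv' _ _ _ _ _ _ =>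
      dsimp only at hQ hF hV
      subst hQ hF
      obtain rfl : Vinv = Vinv' := LinearMap.ext fun z => hV z z.2 z.2
      rfl

/-- `V_R^#`. -/
noncomputable def bcVs (π : (Fin r → WittVector p S) →ₗ[WittVector p S] P)
    (s : P →ₗ[WittVector p S] (Fin r → WittVector p S))
    (Vs : P →ₗ[WittVector p S] Dieu.BC σS P) : Dieu.BC φ P →ₗ[W] Dieu.BC σ (Dieu.BC φ P) :=
  Dieu.BC.lift φ
    { toFun := fun x => ∑ j, φ (coord σS s (Vs x) j) • Dieu.BC.tmul σ 1 (Dieu.BC.tmul φ 1 (gen π j))
      map_add' := fun x y => by simp only [map_add, Pi.add_apply, add_smul, Finset.sum_add_distrib]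
      map_smul' := fun a x => by simp only [map_smul, Pi.smul_apply, smul_eq_mul, map_mul, mul_smul, Finset.smul_sum] }

theorem bcVs_tmul (Vs : P →ₗ[WittVector p S] Dieu.BC σS P) (w : W) (x : P) :
    bcVs f π s Vs (Dieu.BC.tmul φ w x) =
      w • ∑ j, φ (coord σS s (Vs x) j) • Dieu.BC.tmul σ 1 (Dieu.BC.tmul φ 1 (gen π j)) :=
  Dieu.BC.lift_tmul _ _ _ _

theorem sum_frobenius_frobenius (h : π ∘ₗ s = LinearMap.id) (c w : W) (x : P) :
    ∑ j, (c * σ (w * φ (s x j))) • Dieu.BC.tmul σ 1 (Dieu.BC.tmul φ 1 (gen π j)) =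
      Dieu.BC.tmul σ c (Dieu.BC.tmul φ w x) := by
  conv_rhs => rw [← sum_smul_gen h x, tmul_sum, tmul_sum]
  exact Finset.sum_congr rfl fun j _ => by rw [tmul_smul_right φ w, tmul_smul_right σ c]

theorem isVSharp_bcVs (h : π ∘ₗ s = LinearMap.id) {Vs : P →ₗ[WittVector p S] Dieu.BC σS P}
    (hVs : Dieu.IsVSharp D Vs) {DR : W4c1extbt610.Display3n p R (Dieu.BC φ P)}
    (hDR : Dieu.IsDispBaseChange f D DR) : Dieu.IsVSharp DR (bcVs f π s Vs) := by
  obtain ⟨Sp⟩ := exists_split D
  have hF : ∀ z, bcVs f π s Vs (DR.F z) = (p : W) • Dieu.BC.tmul σ 1 z := fun z => by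
    induction z using Dieu.BC.induction_on φ with
    | zero => simp
    | tmul b x =>
      have hx := hVs.app_smul_F 1 x
      rw [one_smul] at hx
      rw [hDR.F_tmul, bcVs_tmul, hx, Finset.smul_sum, Dieu.BC.smul_tmul (c := (p : W)), mul_one,
        ← sum_frobenius_frobenius f h (p : W) b x]
      refine Finset.sum_congr rfl fun j _ => ?_
      rw [map_smul, Pi.smul_apply, coord_tmul, one_mul, smul_eq_mul, map_mul, map_natCast, map_frobenius_comm,
        smul_smul, map_mul]
      congr 1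
      ring
    | add z₁ z₂ h₁ h₂ => rw [map_add, map_add, h₁, h₂, Dieu.BC.tmul_add, smul_add]
  have hV : ∀ y : DR.Q, bcVs f π s Vs (DR.Vinv y) = Dieu.BC.tmul σ 1 (y : Dieu.BC φ P) := fun y => by
    obtain ⟨y, hy⟩ := y
    obtain ⟨a, b, hab⟩ := exists_decomp f Sp h (hDR.Q_eq ▸ hy)
    have m1 : ∀ j, Dieu.BC.tmul φ 1 (Sp.πL (gen π j)) ∈ DR.Q := fun j =>
      hDR.Q_eq ▸ tmul_mem_ker f 1 (Sp.memQ _)
    have m2 : ∀ j, Dieu.BC.tmul φ (WittVector.verschiebung (b j)) (gen π j) ∈ DR.Q := fun j =>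
      hDR.Q_eq ▸ verschiebung_tmul_mem_ker f _ _
    have e : (⟨y, hy⟩ : DR.Q) = ∑ j, a j • ⟨_, m1 j⟩ + ∑ j, ⟨_, m2 j⟩ :=
      Subtype.ext (by simp only [Submodule.coe_add, Submodule.coe_sum, Submodule.coe_smul]; exact hab)
    show bcVs f π s Vs (DR.Vinv ⟨y, hy⟩) = Dieu.BC.tmul σ 1 y
    rw [e]
    conv_rhs => rw [hab, Dieu.BC.tmul_add, tmul_sum, tmul_sum]
    rw [map_add, map_sum, map_sum, map_add, map_sum, map_sum]
    congr 1
    · refine Finset.sum_congr rfl fun j _ => ?_
      rw [map_smulₛₗ, hDR.Vinv_tmul 1 ⟨_, Sp.memQ _⟩ (m1 j), map_one, map_smul, bcVs_tmul, one_smul,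
        tmul_smul_right, one_mul]
      have hy := hVs.app_smul_Vinv 1 ⟨_, Sp.memQ (gen π j)⟩
      rw [one_smul] at hy
      congr 1
      rw [hy, ← sum_frobenius_frobenius f h 1 1 (Sp.πL (gen π j))]
      refine Finset.sum_congr rfl fun l _ => ?_
      rw [coord_tmul, one_mul, one_mul, one_mul, map_frobenius_comm]
    · refine Finset.sum_congr rfl fun j _ => ?_
      rw [hDR.Vinv_verschiebung_tmul _ _ (m2 j), bcVs_tmul]
      have hx := hVs.app_smul_F 1 (gen π j)
      rw [one_smul] at hx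
      rw [hx, ← sum_frobenius_frobenius f h 1 (WittVector.verschiebung (b j)) (gen π j), Finset.smul_sum]
      refine Finset.sum_congr rfl fun l _ => ?_
      rw [map_smul, Pi.smul_apply, coord_tmul, one_mul, smul_eq_mul, map_mul, map_natCast, map_frobenius_comm,
        smul_smul, map_mul, WittVector.frobenius_verschiebung]
      congr 1
      ring
  exact ⟨fun w x => by rw [map_smul, hF, smul_comm, Dieu.BC.smul_tmul, mul_one],
    fun w y => by rw [map_smul, hV, Dieu.BC.smul_tmul, mul_one]⟩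

theorem gen_linearCombination {A M : Type*} [CommRing A] [AddCommGroup M] [Module A M] (v : Fin r → M) (i : Fin r) :
    gen (Fintype.linearCombination A v) i = v i := by
  simp [gen, Fintype.linearCombination_apply, Pi.single_apply, ite_smul]

theorem isDisplay_bc (hD : Dieu.IsDisplay D) {DR : W4c1extbt610.Display3n p R (Dieu.BC φ P)}
    (hDR : Dieu.IsDispBaseChange f D DR) : Dieu.IsDisplay DR := by
  haveI := D.finite
  haveI := D.projective
  obtain ⟨Vs, hVs, n, hn⟩ := hD
  obtain ⟨r, π, s, h⟩ := exists_coords (WittVector p S) P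
  let πR := Fintype.linearCombination W fun j : Fin r => Dieu.BC.tmul φ 1 (gen π j)
  have hR : πR ∘ₗ coord φ s = LinearMap.id := LinearMap.ext fun z => by
    rw [LinearMap.comp_apply, Fintype.linearCombination_apply]
    exact sum_coord φ h z
  have h0 : mat (bcVs f π s Vs) πR (coord φ s) 0 = (mat Vs π s 0).map φ := by
    refine Matrix.ext fun i j => ?_
    simp only [mat, Matrix.of_apply, Matrix.map_apply, Dieu.vSharpPow_zero_apply, coord_castHom]
    rw [gen_linearCombination, bcVs_tmul, one_smul, map_sum, Finset.sum_apply]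
    conv_rhs => rw [← sum_coord σS h (Vs (gen π i)), map_sum, Finset.sum_apply, map_sum]
    refine Finset.sum_congr rfl fun l _ => ?_
    simp only [map_smul, Pi.smul_apply, coord_tmul, smul_eq_mul, map_mul, map_frobenius_comm, one_mul, map_one]
  have hm : ∀ m, mat (bcVs f π s Vs) πR (coord φ s) m = (mat Vs π s m).map φ := fun m => by
    induction m with
    | zero => exact h0
    | succ m ih =>
      rw [mat_succ hR, mat_succ h, ih, h0, Matrix.map_mul, Matrix.map_map, Matrix.map_map]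
      congr 2
      exact funext fun a => (map_frobenius_comm f a).symm
  refine ⟨bcVs f π s Vs, isVSharp_bcVs f h hVs hDR, n, (forall_mem_iff hR _ n).2 fun i j => ?_⟩
  rw [hm, Matrix.map_apply]
  have hb := (forall_mem_iff h (JV p S) n).1 hn i j
  have hle : (JV p S).map φ ≤ JV p R := by
    rw [Ideal.map_le_iff_le_comap]
    refine sup_le (fun a ha => Submodule.mem_sup_left (map_mem_IV f ha)) ?_
    rw [Ideal.span_le, Set.singleton_subset_iff, SetLike.mem_coe, Ideal.mem_comap, map_natCast]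
    exact Submodule.mem_sup_right (Ideal.subset_span rfl)
  exact hle (Ideal.mem_map_of_mem _ hb)

end Groth.Agent.DispTwenty
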