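import Groth.Prelude.Def_Dieu
import Mathlib

/-!
# Coordinates on the scalar extension of a finite projective module
-/

set_option autoImplicit false
set_option linter.style.haveILetI false
universe u u' v

open scoped TensorProduct

namespace Groth.Agent.DispTwenty

variable {A : Type u} {B : Type u'} [CommRing A] [CommRing B] (g : A →+* B)
  {P : Type v} [AddCommGroup P] [Module A P] {r : ℕ}

/-- The map `B ⊗_g P → B ^ r` induced by `s : P → A ^ r`. -/
noncomputable def coord (s : P →ₗ[A] (Fin r → A)) : Dieu.BC g P →ₗ[B] (Fin r → B) :=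
  Dieu.BC.lift g
    { toFun := fun x j => g (s x j)
      map_add' := fun x y => funext fun j => by simp
      map_smul' := fun a x => funext fun j => by simp }

@[simp] theorem coord_tmul (s : P →ₗ[A] (Fin r → A)) (b : B) (x : P) (j : Fin r) :
    coord g s (Dieu.BC.tmul g b x) j = b * g (s x j) := by
  simp [coord]

/-- The basis vectors of `A ^ r`, pushed into `P`. -/
noncomputable def gen (π : (Fin r → A) →ₗ[A] P) (j : Fin r) : P := π (Pi.single j 1)

theorem sum_gen (π : (Fin r → A) →ₗ[A] P) (v : Fin r → A) : ∑ j, v j • gen π j = π v := by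
  conv_rhs => rw [pi_eq_sum_univ' v]
  simp [gen, map_sum]

theorem sum_smul_gen {π : (Fin r → A) →ₗ[A] P} {s : P →ₗ[A] (Fin r → A)} (h : π ∘ₗ s = LinearMap.id) (x : P) :
    ∑ j, s x j • gen π j = x := by
  rw [sum_gen]
  exact LinearMap.congr_fun h x

theorem tmul_sum (b : B) {ι : Type*} (t : Finset ι) (x : ι → P) :
    Dieu.BC.tmul g b (∑ i ∈ t, x i) = ∑ i ∈ t, Dieu.BC.tmul g b (x i) :=
  map_sum (⟨⟨Dieu.BC.tmul g b, Dieu.BC.tmul_zero g b⟩, Dieu.BC.tmul_add g b⟩ : P →+ Dieu.BC g P) x t

theorem tmul_smul_right (b : B) (a : A) (x : P) :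
    Dieu.BC.tmul g b (a • x) = (b * g a) • Dieu.BC.tmul g 1 x := by
  rw [← Dieu.BC.tmul_mul_apply, ← Dieu.BC.tmul_eq_smul_tmul_one]

theorem sum_coord {π : (Fin r → A) →ₗ[A] P} {s : P →ₗ[A] (Fin r → A)} (h : π ∘ₗ s = LinearMap.id)
    (z : Dieu.BC g P) : ∑ j, coord g s z j • Dieu.BC.tmul g 1 (gen π j) = z := by
  induction z using Dieu.BC.induction_on g with
  | zero => simp
  | tmul b x =>
    conv_rhs => rw [← sum_smul_gen h x, tmul_sum]
    exact Finset.sum_congr rfl fun j _ => by rw [coord_tmul, tmul_smul_right]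
  | add z₁ z₂ h₁ h₂ => simp only [map_add, Pi.add_apply, add_smul, Finset.sum_add_distrib, h₁, h₂]

theorem mem_smul_top_iff {π : (Fin r → A) →ₗ[A] P} {s : P →ₗ[A] (Fin r → A)} (h : π ∘ₗ s = LinearMap.id)
    (I : Ideal B) (z : Dieu.BC g P) : z ∈ I • (⊤ : Submodule B (Dieu.BC g P)) ↔ ∀ j, coord g s z j ∈ I := by
  refine ⟨fun hz j => ?_, fun hz => ?_⟩
  · refine Submodule.smul_induction_on hz (fun a ha w _ => ?_) (fun x y hx hy => ?_)
    · rw [map_smul, Pi.smul_apply, smul_eq_mul]; exact Ideal.mul_mem_right _ _ ha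
    · rw [map_add, Pi.add_apply]; exact add_mem hx hy
  · rw [← sum_coord g h z]
    exact Submodule.sum_mem _ fun j _ => Submodule.smul_mem_smul (hz j) Submodule.mem_top

theorem exists_coords (A : Type u) [CommRing A] (P : Type v) [AddCommGroup P] [Module A P] [Module.Finite A P]
    [Module.Projective A P] :
    ∃ (r : ℕ) (π : (Fin r → A) →ₗ[A] P) (s : P →ₗ[A] (Fin r → A)), π ∘ₗ s = LinearMap.id := by
  obtain ⟨r, π, hπ⟩ := Module.Finite.exists_fin' A P
  obtain ⟨s, hs⟩ := Module.projective_lifting_property π LinearMap.id hπ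
  exact ⟨r, π, s, hs⟩

theorem finite_bc (g : A →+* B) [Module.Finite A P] [Module.Projective A P] : Module.Finite B (Dieu.BC g P) := by
  obtain ⟨r, π, s, h⟩ := exists_coords A P
  exact Module.Finite.of_surjective
    (Fintype.linearCombination B fun j => Dieu.BC.tmul g 1 (gen π j)) fun z =>
      ⟨coord g s z, by rw [Fintype.linearCombination_apply]; exact sum_coord g h z⟩

theorem projective_bc (g : A →+* B) [Module.Finite A P] [Module.Projective A P] :
    Module.Projective B (Dieu.BC g P) := by
  obtain ⟨r, π, s, h⟩ := exists_coords A P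
  exact Module.Projective.of_split (coord g s) (Fintype.linearCombination B fun j => Dieu.BC.tmul g 1 (gen π j))
    (LinearMap.ext fun z => by
      rw [LinearMap.comp_apply, Fintype.linearCombination_apply, LinearMap.id_apply]
      exact sum_coord g h z)

/-- `B ⊗_g P` is the base change of `P` along `g`. -/
theorem nonempty_linearEquiv_baseChange [Algebra A B] :
    Nonempty (Dieu.BC (algebraMap A B) P ≃ₗ[B] B ⊗[A] P) := by
  let f : Dieu.BC (algebraMap A B) P →ₗ[B] B ⊗[A] P := Dieu.BC.lift (algebraMap A B)
    { toFun := fun x => (1 : B) ⊗ₜ[A] x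
      map_add' := fun x y => TensorProduct.tmul_add _ _ _
      map_smul' := fun a x => by rw [TensorProduct.tmul_smul, algebraMap_smul] }
  let e₀ : Dieu.Res (algebraMap A B) ≃ₗ[A] B :=
    { toFun := Dieu.Res.val
      map_add' := fun _ _ => rfl
      map_smul' := fun a b => by rw [Dieu.Res.val_smul, RingHom.id_apply, Algebra.smul_def]
      invFun := Dieu.Res.mk _
      left_inv := fun _ => rfl
      right_inv := fun _ => rfl }
  let e := TensorProduct.congr e₀ (LinearEquiv.refl A P)
  refine ⟨LinearEquiv.ofBijective f ?_⟩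
  have he : ∀ z, f z = e z := fun z => by
    induction z using Dieu.BC.induction_on (algebraMap A B) with
    | zero => rw [map_zero]; exact (map_zero e).symm
    | tmul b x =>
      rw [Dieu.BC.lift_tmul]
      show b • ((1 : B) ⊗ₜ[A] x) = b ⊗ₜ[A] x
      rw [TensorProduct.smul_tmul', smul_eq_mul, mul_one]
    | add z₁ z₂ h₁ h₂ => rw [map_add, h₁, h₂]; exact (map_add e z₁ z₂).symm
  rw [show ⇑f = ⇑e from funext he]
  exact e.bijective

theorem rankAtStalk_bc (g : A →+* B) [Module.Finite A P] [Module.Projective A P] (q : PrimeSpectrum B) :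
    Module.rankAtStalk (R := B) (Dieu.BC g P) q = Module.rankAtStalk (R := A) P (PrimeSpectrum.comap g q) := by
  letI := g.toAlgebra
  obtain ⟨e⟩ := nonempty_linearEquiv_baseChange (A := A) (B := B) (P := P)
  refine (congrFun (Module.rankAtStalk_eq_of_equiv (R := B) (M := Dieu.BC g P) e) q).trans ?_
  rw [Module.rankAtStalk_baseChange]
  rfl

theorem bijective_of_surjective_of_rank {M N : Type*} [AddCommGroup M] [Module B M] [AddCommGroup N] [Module B N]
    [Module.Finite B M] [Module.Projective B M] [Module.Finite B N] [Module.Projective B N] (f : M →ₗ[B] N)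
    (hf : Function.Surjective f) (hr : ∀ q, Module.rankAtStalk (R := B) M q = Module.rankAtStalk (R := B) N q) :
    Function.Bijective f := by
  refine ⟨?_, hf⟩
  obtain ⟨t, ht⟩ := Module.projective_lifting_property f LinearMap.id hf
  have ht' : ∀ y, f (t y) = y := LinearMap.congr_fun ht
  let e : M ≃ₗ[B] N × LinearMap.ker f :=
    { toFun := fun x => (f x, ⟨x - t (f x), by rw [LinearMap.mem_ker, map_sub, ht', sub_self]⟩)
      map_add' := fun x y => Prod.ext (map_add f x y) (Subtype.ext (by simp [add_sub_add_comm]))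
      map_smul' := fun a x => Prod.ext (map_smul f a x) (Subtype.ext (by simp [smul_sub]))
      invFun := fun z => t z.1 + z.2
      left_inv := fun x => by simp
      right_inv := fun z => by
        have h0 : f z.2 = 0 := LinearMap.mem_ker.1 z.2.2
        refine Prod.ext (by simp [ht', h0]) (Subtype.ext ?_)
        simp [ht', h0] }
  haveI : Module.Finite B (LinearMap.ker f) := Module.Finite.of_surjective
    ((LinearMap.snd B N (LinearMap.ker f)).comp e.toLinearMap) fun z => ⟨e.symm (0, z), by simp⟩
  haveI : Module.Projective B (LinearMap.ker f) := Module.Projective.of_split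
    (LinearMap.ker f).subtype ((LinearMap.snd B N (LinearMap.ker f)).comp e.toLinearMap)
    (LinearMap.ext fun z => Subtype.ext (by simp [e, LinearMap.mem_ker.1 z.2]))
  have h0 : Module.rankAtStalk (R := B) (LinearMap.ker f) = 0 := funext fun q => by
    have := hr q
    rw [Module.rankAtStalk_eq_of_equiv e, Module.rankAtStalk_prod, Pi.add_apply] at this
    show _ = 0
    omega
  haveI := Module.rankAtStalk_eq_zero_iff_subsingleton.1 h0
  rw [← LinearMap.ker_eq_bot]
  exact Submodule.eq_bot_of_subsingleton

/-- A surjection `g^* P → P` is bijective when `g` fixes the idempotents. -/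
theorem bijective_of_surjective_of_idem {C : Type u} [CommRing C] (g : C →+* C) (hg : ∀ e, IsIdempotentElem e → g e = e)
    {P : Type v} [AddCommGroup P] [Module C P] [Module.Finite C P] [Module.Projective C P]
    (f : Dieu.BC g P →ₗ[C] P) (hf : Function.Surjective f) : Function.Bijective f := by
  haveI := finite_bc (P := P) g
  haveI := projective_bc (P := P) g
  refine bijective_of_surjective_of_rank f hf fun q => ?_
  rw [rankAtStalk_bc]
  set U := {x : PrimeSpectrum C | Module.rankAtStalk (R := C) P x = Module.rankAtStalk (R := C) P q}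
  haveI : Module.FinitePresentation C P := Module.finitePresentation_of_projective C P
  have hU : IsClopen U := (Module.isLocallyConstant_rankAtStalk (R := C) (M := P)).isClopen_fiber _
  obtain ⟨e, e', hee, hsum, he⟩ := PrimeSpectrum.isClopen_iff_mul_add.1 hU
  have hfix := hg e (IsIdempotentElem.of_mul_add hee hsum).1
  have hq : q ∈ U := rfl
  show PrimeSpectrum.comap g q ∈ U
  rw [he] at hq ⊢
  show g e ∉ q.asIdeal
  rwa [hfix]

end Groth.Agent.DispTwenty
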