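import Groth.Agent.DispTwenty.BaseChange
import Groth.Agent.HenselLib.ProjLift

/-!
# Dieudonné modules over perfect rings: `M/VM` is projective
-/

set_option autoImplicit false
set_option linter.style.haveILetI false
universe u v

namespace Groth.Agent.DispTwenty

section Span

variable {A : Type u} [CommRing A] {κ : Type u} [Field κ] (c : A →+* κ)
  {M : Type v} [AddCommGroup M] [Module A M] {r : ℕ} {π : (Fin r → A) →ₗ[A] M} {s : M →ₗ[A] (Fin r → A)}

/-- The reduction of the coordinates. -/
noncomputable def redCoord (s : M →ₗ[A] (Fin r → A)) : M →ₛₗ[c] (Fin r → κ) where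
  toFun x j := c (s x j)
  map_add' x y := funext fun j => by simp
  map_smul' a x := funext fun j => by simp

theorem redCoord_apply (s : M →ₗ[A] (Fin r → A)) (x : M) (j : Fin r) : redCoord c s x j = c (s x j) := rfl

theorem exists_smul_mem_span (h : π ∘ₗ s = LinearMap.id) (hc : Function.Surjective c) {ι : Type*} [Fintype ι]
    (m : ι → M) (hm : ∀ j, redCoord c s (gen π j) ∈ Submodule.span κ (Set.range (redCoord c s ∘ m))) :
    ∃ a : A, c a ≠ 0 ∧ ∀ x, a • x ∈ Submodule.span A (Set.range m) := by
  classical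
  have hB : ∀ j, ∃ b : ι → A, redCoord c s (∑ i, b i • m i) = redCoord c s (gen π j) := fun j => by
    obtain ⟨b, hb⟩ := Submodule.mem_span_range_iff_exists_fun κ |>.1 (hm j)
    choose b' hb' using fun i => hc (b i)
    exact ⟨b', by simp [map_sum, map_smulₛₗ, hb', ← hb]⟩
  choose b hb using hB
  let h₀ : M →ₗ[A] M := Fintype.linearCombination A (fun j => ∑ i, b j i • m i) ∘ₗ s
  have h0m : ∀ x, h₀ x ∈ Submodule.span A (Set.range m) := fun x => by
    show Fintype.linearCombination A (fun j => ∑ i, b j i • m i) (s x) ∈ _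
    rw [Fintype.linearCombination_apply]
    exact Submodule.sum_mem _ fun j _ => Submodule.smul_mem _ _ (Submodule.sum_mem _ fun i _ =>
      Submodule.smul_mem _ _ (Submodule.subset_span ⟨i, rfl⟩))
  have h0c : ∀ x, redCoord c s (h₀ x) = redCoord c s x := fun x => by
    show redCoord c s (Fintype.linearCombination A (fun j => ∑ i, b j i • m i) (s x)) = _
    conv_rhs => rw [← sum_smul_gen h x]
    simp only [Fintype.linearCombination_apply, map_sum (redCoord c s) (fun j => s x j • _), map_smulₛₗ, hb]
  let N : (Fin r → A) →ₗ[A] (Fin r → A) := s ∘ₗ h₀ ∘ₗ π + (LinearMap.id - s ∘ₗ π)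
  have hN : (LinearMap.toMatrix' N).map c = 1 := by
    refine Matrix.ext fun i j => ?_
    have := congrFun (h0c (gen π j)) i
    rw [redCoord_apply, redCoord_apply] at this
    rw [Matrix.map_apply, LinearMap.toMatrix'_apply]
    simp only [N, LinearMap.add_apply, LinearMap.sub_apply, LinearMap.comp_apply, LinearMap.id_apply,
      Pi.add_apply, Pi.sub_apply, map_add, map_sub]
    rw [show c (s (h₀ (π (Pi.single j 1))) i) = c (s (π (Pi.single j 1)) i) from this, add_sub_cancel]
    simp [Matrix.one_apply, Pi.single_apply, apply_ite c]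
  refine ⟨(LinearMap.toMatrix' N).det, ?_, fun x => ?_⟩
  · rw [RingHom.map_det, RingHom.mapMatrix_apply, hN, Matrix.det_one]
    exact one_ne_zero
  · have e : ∀ v, N ((LinearMap.toMatrix' N).adjugate.mulVec v) = (LinearMap.toMatrix' N).det • v := fun v => by
      rw [← LinearMap.toMatrix'_mulVec, Matrix.mulVec_mulVec, Matrix.mul_adjugate, Matrix.smul_mulVec,
        Matrix.one_mulVec]
    have hπN : ∀ z, π (N z) = h₀ (π z) := fun z => by
      have hsπ : ∀ y, π (s y) = y := fun y => LinearMap.congr_fun h y
      simp only [N, LinearMap.add_apply, LinearMap.sub_apply, LinearMap.comp_apply, LinearMap.id_apply, map_add,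
        map_sub, hsπ, sub_self, add_zero]
    rw [show (LinearMap.toMatrix' N).det • x = h₀ (π ((LinearMap.toMatrix' N).adjugate.mulVec (s x))) by
      rw [← hπN, e, map_smul, show π (s x) = x from LinearMap.congr_fun h x]]
    exact h0m _

theorem exists_left_inverse_smul (hc : Function.Surjective c) {ι : Type*} [Fintype ι] [DecidableEq ι] (m : ι → M)
    (hli : LinearIndependent κ (redCoord c s ∘ m)) :
    ∃ (a : A) (Ψ : M →ₗ[A] (ι → A)), c a ≠ 0 ∧ ∀ i, Ψ (m i) = a • Pi.single i 1 := by
  classical
  obtain ⟨L, hL⟩ := (Fintype.linearCombination κ (redCoord c s ∘ m)).exists_leftInverse_of_injective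
    (LinearMap.ker_eq_bot.2 hli.fintypeLinearCombination_injective)
  choose l hl using fun i j => hc (L (Pi.single j 1) i)
  let Ψ₀ : M →ₗ[A] (ι → A) := (Matrix.of l).mulVecLin ∘ₗ s
  let B : Matrix ι ι A := Matrix.of fun i i' => Ψ₀ (m i') i
  have hB : B.map c = 1 := by
    refine Matrix.ext fun i i' => ?_
    have h1 := LinearMap.congr_fun hL (Pi.single i' 1)
    rw [LinearMap.comp_apply, Fintype.linearCombination_apply_single, one_smul, LinearMap.id_apply] at h1
    show c (((Matrix.of l).mulVec (s (m i'))) i) = (1 : Matrix ι ι κ) i i'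
    rw [RingHom.map_mulVec]
    rw [show (1 : Matrix ι ι κ) i i' = L (redCoord c s (m i')) i by
      rw [Function.comp_apply] at h1; rw [h1]; simp [Matrix.one_apply, Pi.single_apply]]
    conv_rhs => rw [pi_eq_sum_univ' (redCoord c s (m i'))]
    simp only [map_sum, map_smul, Finset.sum_apply, Pi.smul_apply, smul_eq_mul, Matrix.mulVec, dotProduct,
      Matrix.map_apply, Matrix.of_apply, hl, Function.comp_apply, redCoord_apply]
    exact Finset.sum_congr rfl fun j _ => mul_comm _ _
  refine ⟨B.det, B.adjugate.mulVecLin ∘ₗ Ψ₀, ?_, fun i' => ?_⟩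
  · rw [RingHom.map_det, RingHom.mapMatrix_apply, hB, Matrix.det_one]
    exact one_ne_zero
  · rw [LinearMap.comp_apply, Matrix.mulVecLin_apply, show Ψ₀ (m i') = B.mulVec (Pi.single i' 1) by
      ext i; simp [B], Matrix.mulVec_mulVec, Matrix.adjugate_mul, Matrix.smul_mulVec, Matrix.one_mulVec]

/-- A spanning set contains a family which is a basis modulo a subspace. -/
theorem exists_compl_family {n : ℕ} {V : Type*} [AddCommGroup V] [Module κ V] (U : Submodule κ V) (g : Fin n → V) :
    ∃ t : Set (Fin n), LinearIndependent κ (fun i : t => U.mkQ (g i)) ∧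
      ∀ j, g j ∈ U ⊔ Submodule.span κ (Set.range fun i : t => g i) := by
  obtain ⟨ι, a, hinj, hspan, hli⟩ := exists_linearIndependent' κ (U.mkQ ∘ g)
  refine ⟨Set.range a, ?_, fun j => ?_⟩
  · exact (linearIndependent_equiv (Equiv.ofInjective a hinj)).1 hli
  · have hj : U.mkQ (g j) ∈ Submodule.span κ (Set.range (U.mkQ ∘ g ∘ a)) := by
      rw [← Function.comp_assoc, hspan]; exact Submodule.subset_span ⟨j, rfl⟩
    rw [Set.range_comp, ← Submodule.map_span] at hj
    obtain ⟨y, hy, e⟩ := hj
    have hd : g j - y ∈ U := (Submodule.Quotient.eq U).1 e.symm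
    have hy' : y ∈ Submodule.span κ (Set.range fun i : Set.range a => g i) := by
      refine Submodule.span_mono ?_ hy
      rintro _ ⟨i, rfl⟩
      exact ⟨⟨a i, i, rfl⟩, rfl⟩
    rw [← sub_add_cancel (g j) y]
    exact Submodule.add_mem_sup hd hy'

end Span

variable {p : ℕ} [Fact p.Prime]

/-- Extension of a semilinear map to the scalar extension. -/
theorem exists_semilin {A B : Type u} [CommRing A] [CommRing B] (φ : A →+* B) {τ : A →+* A} (τ' : B →+* B)
    (hcomm : ∀ a, φ (τ a) = τ' (φ a)) {M : Type v} [AddCommGroup M] [Module A M] {r : ℕ}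
    {π : (Fin r → A) →ₗ[A] M} {s : M →ₗ[A] (Fin r → A)} (h : π ∘ₗ s = LinearMap.id) (ψ : M →ₛₗ[τ] M) :
    ∃ ψ' : Dieu.BC φ M →ₛₗ[τ'] Dieu.BC φ M,
      ∀ b x, ψ' (Dieu.BC.tmul φ b x) = Dieu.BC.tmul φ (τ' b) (ψ x) := by
  refine ⟨{
    toFun := fun z => ∑ j, τ' (coord φ s z j) • Dieu.BC.tmul φ 1 (ψ (gen π j))
    map_add' := fun x y => by simp only [map_add, Pi.add_apply, add_smul, Finset.sum_add_distrib]
    map_smul' := fun a x => by
      simp only [map_smul, Pi.smul_apply, smul_eq_mul, map_mul, mul_smul, Finset.smul_sum] }, fun b x => ?_⟩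
  show ∑ j, τ' (coord φ s (Dieu.BC.tmul φ b x) j) • Dieu.BC.tmul φ 1 (ψ (gen π j)) = _
  conv_rhs => rw [← sum_smul_gen h x, map_sum, tmul_sum]
  refine Finset.sum_congr rfl fun j _ => ?_
  rw [coord_tmul, map_mul, ← hcomm, map_smulₛₗ, tmul_smul_right]

theorem redCoord_mem_span_F {k : Type u} [CommRing k] [CharP k p] [PerfectRing k p] {κ : Type u} [Field κ]
    [CharP κ p] [PerfectRing κ p] (f : k →+* κ) {M : Type v} [AddCommGroup M] [Module (WittVector p k) M]
    {r : ℕ} {π : (Fin r → WittVector p k) →ₗ[WittVector p k] M}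
    {s : M →ₗ[WittVector p k] (Fin r → WittVector p k)} (h : π ∘ₗ s = LinearMap.id)
    (F : M →ₛₗ[(WittVector.frobenius : WittVector p k →+* WittVector p k)] M)
    (V : M →ₛₗ[((WittVector.frobeniusEquiv p k).symm : WittVector p k →+* WittVector p k)] M)
    (hFV : ∀ m : M, F (V m) = (p : WittVector p k) • m) (hVF : ∀ m : M, V (F m) = (p : WittVector p k) • m)
    {x : M} (hx : redCoord (f.comp WittVector.constantCoeff) s (V x) = 0) :
    redCoord (f.comp WittVector.constantCoeff) s x ∈
      Submodule.span κ (Set.range fun j => redCoord (f.comp WittVector.constantCoeff) s (F (gen π j))) := by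
  obtain ⟨F', hF'⟩ := exists_semilin (WittVector.map f : WittVector p k →+* WittVector p κ)
    (WittVector.frobenius : WittVector p κ →+* WittVector p κ) (fun a => map_frobenius_comm f a) h F
  have hcomm : ∀ a : WittVector p k, (WittVector.map f : WittVector p k →+* WittVector p κ)
      ((WittVector.frobeniusEquiv p k).symm a) = (WittVector.frobeniusEquiv p κ).symm (WittVector.map f a) :=
    fun a => ((WittVector.frobeniusEquiv p κ).eq_symm_apply).2 (by
      rw [WittVector.frobeniusEquiv_apply, ← map_frobenius_comm, ← WittVector.frobeniusEquiv_apply,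
        RingEquiv.apply_symm_apply])
  obtain ⟨V', hV'⟩ := exists_semilin (WittVector.map f : WittVector p k →+* WittVector p κ)
    ((WittVector.frobeniusEquiv p κ).symm : WittVector p κ →+* WittVector p κ) hcomm h V
  have e1 : ∀ z, F' (V' z) = (p : WittVector p κ) • z := fun z => by
    induction z using Dieu.BC.induction_on (WittVector.map f : WittVector p k →+* WittVector p κ) with
    | zero => simp
    | tmul b y =>
      rw [hV', hF', hFV, tmul_smul_right, map_natCast, mul_comm, mul_smul, ← Dieu.BC.tmul_eq_smul_tmul_one]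
      congr 2
      exact (WittVector.frobeniusEquiv p κ).apply_symm_apply b
    | add a b ha hb => simp only [map_add, ha, hb, smul_add]
  have e2 : ∀ z, V' (F' z) = (p : WittVector p κ) • z := fun z => by
    induction z using Dieu.BC.induction_on (WittVector.map f : WittVector p k →+* WittVector p κ) with
    | zero => simp
    | tmul b y =>
      rw [hF', hV', hVF, tmul_smul_right, map_natCast, mul_comm, mul_smul, ← Dieu.BC.tmul_eq_smul_tmul_one]
      congr 2
      exact (WittVector.frobeniusEquiv p κ).symm_apply_apply b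
    | add a b ha hb => simp only [map_add, ha, hb, smul_add]
  have hV0 : ∀ z, V' z = 0 → z = 0 := fun z hz => by
    have h0 := e1 z
    rw [hz, map_zero] at h0
    rw [← sum_coord (WittVector.map f : WittVector p k →+* WittVector p κ) h z]
    refine Finset.sum_eq_zero fun j _ => ?_
    have := congrArg (fun w => coord (WittVector.map f : WittVector p k →+* WittVector p κ) s w j) h0
    simp only [map_zero, Pi.zero_apply, map_smul, Pi.smul_apply, smul_eq_mul] at this
    rw [(mul_eq_zero.1 this.symm).resolve_left (WittVector.p_nonzero p κ), zero_smul]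
  have hdvd : ∀ j, ∃ w : WittVector p κ, (WittVector.map f : WittVector p k →+* WittVector p κ) (s (V x) j) = (p : WittVector p κ) * w := fun j => by
    have h0 : ((WittVector.map f : WittVector p k →+* WittVector p κ) (s (V x) j)).coeff 0 = 0 := (WittVector.map_coeff _ _ _).trans (congrFun hx j)
    have h1 := WittVector.ker_constantCoeff (k := κ) (p := p)
    have : (WittVector.map f : WittVector p k →+* WittVector p κ) (s (V x) j) ∈ Ideal.span {(p : WittVector p κ)} := by rw [← h1]; exact h0
    obtain ⟨w, hw⟩ := Ideal.mem_span_singleton.1 this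
    exact ⟨w, hw⟩
  choose w hw using hdvd
  let y := ∑ j, w j • Dieu.BC.tmul (WittVector.map f : WittVector p k →+* WittVector p κ) 1 (gen π j)
  have hy : F' y = Dieu.BC.tmul (WittVector.map f : WittVector p k →+* WittVector p κ) 1 x := by
    refine sub_eq_zero.1 (hV0 _ ?_)
    rw [map_sub, e2, hV', map_one, sub_eq_zero]
    conv_rhs => rw [← sum_coord (WittVector.map f : WittVector p k →+* WittVector p κ) h (Dieu.BC.tmul (WittVector.map f : WittVector p k →+* WittVector p κ) 1 (V x))]
    simp only [y, Finset.smul_sum, smul_smul, coord_tmul, one_mul, hw]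
  have hcc : ∀ j, redCoord (f.comp WittVector.constantCoeff) s x j =
      (WittVector.constantCoeff : WittVector p κ →+* κ) (coord (WittVector.map f : WittVector p k →+* WittVector p κ) s (F' y) j) := fun j => by
    rw [hy, coord_tmul, one_mul]
    exact (WittVector.map_coeff _ _ _).symm
  refine Submodule.mem_span_range_iff_exists_fun κ |>.2
    ⟨fun j => (WittVector.constantCoeff : WittVector p κ →+* κ) (WittVector.frobenius (w j)), funext fun i => ?_⟩
  rw [hcc]
  simp only [y, map_sum, map_smulₛₗ, hF', map_one, Finset.sum_apply, Pi.smul_apply, smul_eq_mul, map_mul,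
    coord_tmul, one_mul]
  exact Finset.sum_congr rfl fun j _ => congrArg _ (WittVector.map_coeff _ _ _).symm

/-- Locally, `M/VM` splits off `M/pM`. -/
theorem exists_local_splitting {k : Type u} [CommRing k] [CharP k p] [PerfectRing k p] (q : Ideal k) [q.IsMaximal]
    {M : Type v} [AddCommGroup M] [Module (WittVector p k) M]
    [Module.Finite (WittVector p k) M] [Module.Projective (WittVector p k) M]
    (F : M →ₛₗ[(WittVector.frobenius : WittVector p k →+* WittVector p k)] M)
    (V : M →ₛₗ[((WittVector.frobeniusEquiv p k).symm : WittVector p k →+* WittVector p k)] M)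
    (hFV : ∀ m : M, F (V m) = (p : WittVector p k) • m) (hVF : ∀ m : M, V (F m) = (p : WittVector p k) • m) :
    ∃ a : WittVector p k, WittVector.constantCoeff a ∉ q ∧ ∃ e : M →ₗ[WittVector p k] M,
      (∀ x, ∃ y, V y = e x - a • x) ∧ ∀ y, ∃ z, e (V y) = (p : WittVector p k) • z := by
  classical
  letI : Field (k ⧸ q) := Ideal.Quotient.field q
  haveI : CharP (k ⧸ q) p := (CharP.charP_iff_prime_eq_zero Fact.out).2 (by
    rw [← map_natCast (Ideal.Quotient.mk q), CharP.cast_eq_zero, map_zero])
  haveI : PerfectRing (k ⧸ q) p := PerfectRing.ofSurjective _ p fun z => by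
    obtain ⟨w, rfl⟩ := Ideal.Quotient.mk_surjective z
    refine ⟨Ideal.Quotient.mk q ((frobeniusEquiv k p).symm w), ?_⟩
    rw [frobenius_def, ← map_pow, ← frobenius_def, frobenius_apply_frobeniusEquiv_symm]
  let c : WittVector p k →+* k ⧸ q := (Ideal.Quotient.mk q).comp WittVector.constantCoeff
  have hc : Function.Surjective c := fun z => by
    obtain ⟨w, rfl⟩ := Ideal.Quotient.mk_surjective z
    exact ⟨WittVector.teichmuller p w, congrArg _ (WittVector.teichmuller_coeff_zero p w)⟩
  obtain ⟨r, π, s, h⟩ := exists_coords (WittVector p k) M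
  let UV := Submodule.span (k ⧸ q) (Set.range fun j => redCoord c s (V (gen π j)))
  let UF := Submodule.span (k ⧸ q) (Set.range fun j => redCoord c s (F (gen π j)))
  have hVmem : ∀ x, redCoord c s (V x) ∈ UV := fun x => by
    rw [← sum_smul_gen h x]
    simp only [map_sum, map_smulₛₗ]
    exact Submodule.sum_mem _ fun j _ => Submodule.smul_mem _ _ (Submodule.subset_span ⟨j, rfl⟩)
  obtain ⟨T, hTli, hTsp⟩ := exists_compl_family UV fun j => redCoord c s (gen π j)
  obtain ⟨D, hDli, hDsp⟩ := exists_compl_family UF fun j => redCoord c s (gen π j)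
  let m : T ⊕ D → M := Sum.elim (fun i => gen π i) fun i => V (gen π i)
  -- generators of `M` modulo `F M`
  let mF : D ⊕ Fin r → M := Sum.elim (fun i => gen π i) fun j => F (gen π j)
  obtain ⟨aF, haF, hspF⟩ := exists_smul_mem_span c h hc mF fun j => by
    refine SetLike.le_def.1 (sup_le ?_ ?_) (hDsp j)
    · exact Submodule.span_mono (by rintro _ ⟨i, rfl⟩; exact ⟨.inr i, rfl⟩)
    · exact Submodule.span_mono (by rintro _ ⟨i, rfl⟩; exact ⟨.inl i, rfl⟩)
  have hVsp : ∀ y, ∃ l : D → WittVector p k, ∃ z,
      (WittVector.frobeniusEquiv p k).symm aF • V y = ∑ i, l i • V (gen π i) + (p : WittVector p k) • z := fun y => by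
    obtain ⟨b, hb⟩ := Submodule.mem_span_range_iff_exists_fun (WittVector p k) |>.1 (hspF y)
    refine ⟨fun i => (WittVector.frobeniusEquiv p k).symm (b (.inl i)),
      ∑ j, (WittVector.frobeniusEquiv p k).symm (b (.inr j)) • gen π j, ?_⟩
    have h1 := (map_smulₛₗ V aF y).symm
    rw [← hb] at h1
    refine h1.trans ?_
    simp only [Fintype.sum_sum_type, mF, Sum.elim_inl, Sum.elim_inr, map_add, map_sum, map_smulₛₗ, hVF,
      Finset.smul_sum, RingHom.coe_coe]
    exact congrArg _ (Finset.sum_congr rfl fun j _ => smul_comm _ _ _)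
  -- `m` is independent modulo `q`
  have hli : LinearIndependent (k ⧸ q) (redCoord c s ∘ m) := by
    rw [Fintype.linearIndependent_iff]
    intro g hg
    simp only [Fintype.sum_sum_type, Function.comp_apply, m, Sum.elim_inl, Sum.elim_inr] at hg
    have hT : ∀ i : T, g (.inl i) = 0 := by
      refine Fintype.linearIndependent_iff.1 hTli (fun i => g (.inl i)) ?_
      have := congrArg UV.mkQ hg
      rw [map_add, map_zero] at this
      simp only [map_sum, map_smul] at this
      rw [Finset.sum_eq_zero (s := (Finset.univ : Finset D)) (fun i _ => by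
        rw [Submodule.mkQ_apply, (Submodule.Quotient.mk_eq_zero UV).2 (hVmem _), smul_zero]), add_zero] at this
      exact this
    simp only [hT, zero_smul, Finset.sum_const_zero, zero_add] at hg
    choose w hw using fun i : D => hc (g (.inr i))
    let x := ∑ i, WittVector.frobenius (w i) • gen π (i : Fin r)
    have hx : redCoord c s (V x) = 0 := by
      simp only [x, map_sum, map_smulₛₗ, RingHom.coe_coe]
      refine (Finset.sum_congr rfl fun i _ => ?_).trans hg
      rw [← WittVector.frobeniusEquiv_apply, RingEquiv.symm_apply_apply, hw]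
    have hmem := redCoord_mem_span_F (Ideal.Quotient.mk q) h F V hFV hVF hx
    have hD0 : ∀ i : D, c (WittVector.frobenius (w i)) = 0 := by
      refine Fintype.linearIndependent_iff.1 hDli (fun i : D => c (WittVector.frobenius (w i))) ?_
      have := (Submodule.Quotient.mk_eq_zero UF).2 hmem
      rw [← Submodule.mkQ_apply] at this
      simpa only [x, map_sum, map_smulₛₗ, RingHom.id_apply] using this
    intro i
    rcases i with i | i
    · exact hT i
    · have h0 := hD0 i
      have e : c (WittVector.frobenius (w i)) = c (w i) ^ p := by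
        simp only [c, RingHom.comp_apply]
        rw [← map_pow]
        congr 1
        exact WittVector.coeff_frobenius_charP p (w i) 0
      rw [e] at h0
      rw [← hw]
      exact pow_eq_zero_iff (Nat.Prime.ne_zero Fact.out) |>.1 h0
  obtain ⟨a₁, Ψ, ha₁, hΨ⟩ := exists_left_inverse_smul c hc m hli
  obtain ⟨a, ha, hsp⟩ := exists_smul_mem_span c h hc m fun j => by
    refine SetLike.le_def.1 (sup_le ?_ ?_) (hTsp j)
    · refine Submodule.span_le.2 ?_
      rintro _ ⟨l, rfl⟩
      -- `V (gen l)` modulo `q` is a combination of the `V (gen i)`, `i ∈ D`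
      obtain ⟨b, z, hbz⟩ := hVsp (gen π l)
      have ha' : c ((WittVector.frobeniusEquiv p k).symm aF) ≠ 0 := fun h0 => haF (by
        rw [← (WittVector.frobeniusEquiv p k).apply_symm_apply aF, WittVector.frobeniusEquiv_apply]
        show Ideal.Quotient.mk q ((WittVector.frobenius _).coeff 0) = 0
        rw [WittVector.coeff_frobenius_charP, map_pow]
        exact (congrArg (· ^ p) h0).trans (zero_pow (Nat.Prime.ne_zero Fact.out)))
      have h1 := congrArg (redCoord c s) hbz
      simp only [map_add, map_sum, map_smulₛₗ, map_natCast, CharP.cast_eq_zero, zero_smul, add_zero] at h1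
      show redCoord c s (V (gen π l)) ∈ _
      rw [← inv_smul_smul₀ ha' (redCoord c s (V (gen π l))), h1]
      exact Submodule.smul_mem _ _ (Submodule.sum_mem _ fun i _ =>
        Submodule.smul_mem _ _ (Submodule.subset_span ⟨.inr i, rfl⟩))
    · exact Submodule.span_mono (by rintro _ ⟨i, rfl⟩; exact ⟨.inl i, rfl⟩)
  have key : ∀ x, (a₁ * a) • x = a • ∑ i, Ψ x i • m i := fun x => by
    obtain ⟨b, hb⟩ := Submodule.mem_span_range_iff_exists_fun (WittVector p k) |>.1 (hsp x)
    have h1 : ∀ i, a * Ψ x i = a₁ * b i := fun i => by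
      have := congrFun (congrArg Ψ hb.symm) i
      simp only [map_smul, map_sum, hΨ, Pi.smul_apply, Finset.sum_apply, smul_eq_mul] at this
      rw [this, Finset.sum_eq_single i (fun j _ hj => by rw [Pi.single_eq_of_ne' hj, mul_zero, mul_zero])
        (fun hi => absurd (Finset.mem_univ i) hi), Pi.single_eq_same, mul_one, mul_comm]
    rw [Finset.smul_sum, mul_smul, ← hb, Finset.smul_sum]
    exact Finset.sum_congr rfl fun i _ => by rw [smul_smul, smul_smul, h1]
  let a' := (WittVector.frobeniusEquiv p k).symm aF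
  let e₀ : M →ₗ[WittVector p k] M :=
    ∑ i : T, (LinearMap.proj (Sum.inl i) ∘ₗ Ψ).smulRight (gen π (i : Fin r))
  have he₀ : ∀ x, e₀ x = ∑ i : T, Ψ x (.inl i) • gen π (i : Fin r) := fun x => by
    simp [e₀]
  refine ⟨a' * (a₁ * a), ?_, (a' * a) • e₀, fun x => ?_, fun y => ?_⟩
  · intro h0
    have : c (a' * (a₁ * a)) = 0 := Ideal.Quotient.eq_zero_iff_mem.2 h0
    rw [map_mul, map_mul, mul_eq_zero, mul_eq_zero] at this
    rcases this with h1 | h1 | h1
    · refine haF ?_
      rw [← (WittVector.frobeniusEquiv p k).apply_symm_apply aF, WittVector.frobeniusEquiv_apply]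
      show Ideal.Quotient.mk q ((WittVector.frobenius _).coeff 0) = 0
      rw [WittVector.coeff_frobenius_charP, map_pow]
      exact (congrArg (· ^ p) h1).trans (zero_pow (Nat.Prime.ne_zero Fact.out))
    · exact ha₁ h1
    · exact ha h1
  · refine ⟨-∑ i : D, (WittVector.frobenius (a' * a * Ψ x (.inr i))) • gen π (i : Fin r), ?_⟩
    have h2 : (a' * (a₁ * a)) • x = (a' * a) • ∑ i, Ψ x i • m i := by rw [mul_smul, key, smul_smul]
    rw [LinearMap.smul_apply, he₀, h2, Fintype.sum_sum_type]
    simp only [m, Sum.elim_inl, Sum.elim_inr, smul_add, sub_add_cancel_left, map_neg, map_sum, map_smulₛₗ,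
      Finset.smul_sum, smul_smul, RingHom.coe_coe, ← WittVector.frobeniusEquiv_apply, RingEquiv.symm_apply_apply]
  · obtain ⟨b, z, hbz⟩ := hVsp y
    refine ⟨a • e₀ z, ?_⟩
    rw [LinearMap.smul_apply, mul_comm, mul_smul, ← map_smul e₀, hbz, map_add, map_sum]
    rw [Finset.sum_eq_zero (fun i _ => by
      rw [map_smul, he₀, Finset.sum_eq_zero (fun t _ => by
        rw [show V (gen π (i : Fin r)) = m (.inr i) from rfl, hΨ, Pi.smul_apply,
          Pi.single_eq_of_ne Sum.inl_ne_inr, smul_zero, zero_smul]), smul_zero]), zero_add, map_smul, smul_comm]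

/-- `M/VM` splits off `M/pM`. -/
theorem exists_splitting {k : Type u} [CommRing k] [CharP k p] [PerfectRing k p]
    {M : Type v} [AddCommGroup M] [Module (WittVector p k) M]
    [Module.Finite (WittVector p k) M] [Module.Projective (WittVector p k) M]
    (F : M →ₛₗ[(WittVector.frobenius : WittVector p k →+* WittVector p k)] M)
    (V : M →ₛₗ[((WittVector.frobeniusEquiv p k).symm : WittVector p k →+* WittVector p k)] M)
    (hFV : ∀ m : M, F (V m) = (p : WittVector p k) • m) (hVF : ∀ m : M, V (F m) = (p : WittVector p k) • m) :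
    ∃ e : M →ₗ[WittVector p k] M,
      (∀ x, ∃ y, V y = e x - x) ∧ ∀ y, ∃ z, e (V y) = (p : WittVector p k) • z := by
  let J : Ideal (WittVector p k) :=
    { carrier := {a | ∃ e : M →ₗ[WittVector p k] M,
        (∀ x, ∃ y, V y = e x - a • x) ∧ ∀ y, ∃ z, e (V y) = (p : WittVector p k) • z}
      zero_mem' := ⟨0, fun x => ⟨0, by simp⟩, fun y => ⟨0, by simp⟩⟩
      add_mem' := fun {a b} ⟨e, he, he'⟩ ⟨e₂, he₂, he₂'⟩ => ⟨e + e₂, fun x => by
          obtain ⟨y, hy⟩ := he x
          obtain ⟨y₂, hy₂⟩ := he₂ x
          exact ⟨y + y₂, by rw [map_add, hy, hy₂, LinearMap.add_apply, add_smul]; abel⟩, fun y => by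
          obtain ⟨z, hz⟩ := he' y
          obtain ⟨z₂, hz₂⟩ := he₂' y
          exact ⟨z + z₂, by rw [LinearMap.add_apply, hz, hz₂, smul_add]⟩⟩
      smul_mem' := fun b a ⟨e, he, he'⟩ => ⟨b • e, fun x => by
          obtain ⟨y, hy⟩ := he x
          refine ⟨WittVector.frobenius b • y, ?_⟩
          rw [map_smulₛₗ, hy, RingHom.coe_coe, ← WittVector.frobeniusEquiv_apply, RingEquiv.symm_apply_apply,
            LinearMap.smul_apply, smul_sub, smul_eq_mul, mul_smul], fun y => by
          obtain ⟨z, hz⟩ := he' y
          exact ⟨b • z, by rw [LinearMap.smul_apply, hz, smul_comm]⟩⟩ }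
  have hpJ : (p : WittVector p k) ∈ J :=
    ⟨0, fun x => ⟨-F x, by rw [map_neg, hVF, LinearMap.zero_apply, zero_sub]⟩, fun y => ⟨0, by simp⟩⟩
  suffices hJ : (1 : WittVector p k) ∈ J by
    obtain ⟨e, he, he'⟩ := hJ
    exact ⟨e, fun x => by simpa using he x, he'⟩
  by_contra h1
  have hker : RingHom.ker (WittVector.constantCoeff : WittVector p k →+* k) ≤ J := by
    rw [WittVector.ker_constantCoeff, Ideal.span_le, Set.singleton_subset_iff]
    exact hpJ
  have hsurj : Function.Surjective (WittVector.constantCoeff : WittVector p k →+* k) := fun w =>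
    ⟨WittVector.teichmuller p w, WittVector.teichmuller_coeff_zero p w⟩
  have hne : J.map (WittVector.constantCoeff : WittVector p k →+* k) ≠ ⊤ := fun ht => h1 (by
    have := Ideal.comap_map_of_surjective' _ hsurj J
    rw [ht, Ideal.comap_top, sup_eq_left.2 hker] at this
    exact this ▸ Submodule.mem_top)
  obtain ⟨q, hq, hle⟩ := Ideal.exists_le_maximal _ hne
  obtain ⟨a, ha, he⟩ := exists_local_splitting q F V hFV hVF
  exact ha (hle (Ideal.mem_map_of_mem _ (show a ∈ J from he)))

end Groth.Agent.DispTwenty
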