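import Groth.Agent.DispTwenty.VSharp

/-!
# The iterates of `V^#` in coordinates
-/

set_option autoImplicit false
set_option linter.style.haveILetI false
universe u v

namespace Groth.Agent.DispTwenty

variable {p : ℕ} [Fact p.Prime] {R : Type u} [CommRing R]
  {P : Type v} [AddCommGroup P] [Module (WittVector p R) P] {r : ℕ}

local notation "W" => WittVector p R
local notation "σ" => (WittVector.frobenius : WittVector p R →+* WittVector p R)

/-- The matrix of `V^{(n+1)#}`. -/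
noncomputable def mat (Vs : P →ₗ[W] Dieu.BC σ P) (π : (Fin r → W) →ₗ[W] P) (s : P →ₗ[W] (Fin r → W)) (n : ℕ) :
    Matrix (Fin r) (Fin r) W :=
  Matrix.of fun i j => coord (σ ^ (n + 1)) s (Dieu.vSharpPow Vs n (gen π i)) j

theorem coord_castHom {A B : Type u} [CommRing A] [CommRing B] {g g' : A →+* B} (e : g = g') {Q : Type v}
    [AddCommGroup Q] [Module A Q] (s : Q →ₗ[A] (Fin r → A)) (z : Dieu.BC g Q) :
    coord g' s (Dieu.BC.castHom e z) = coord g s z := by
  subst e; rfl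

theorem coord_push {A B : Type u} [CommRing A] [CommRing B] (g : A →+* B) (h : B →+* B) {Q : Type v}
    [AddCommGroup Q] [Module A Q] (s : Q →ₗ[A] (Fin r → A)) (z : Dieu.BC g Q) (j : Fin r) :
    coord (h.comp g) s (Dieu.BC.push g h z) j = h (coord g s z j) := by
  induction z using Dieu.BC.induction_on g with
  | zero => simp
  | tmul b x => rw [Dieu.BC.push_tmul, coord_tmul, coord_tmul, map_mul]; rfl
  | add z₁ z₂ h₁ h₂ => simp only [map_add, Pi.add_apply, h₁, h₂]

theorem coord_linear {A B : Type u} [CommRing A] [CommRing B] (g : A →+* B) {Q : Type v} [AddCommGroup Q]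
    [Module A Q] {Q' : Type v} [AddCommGroup Q'] [Module B Q'] (f : Q' →ₗ[B] Dieu.BC g Q) {π : (Fin r → B) →ₗ[B] Q'}
    {s' : Q' →ₗ[B] (Fin r → B)} (h : π ∘ₗ s' = LinearMap.id) (s : Q →ₗ[A] (Fin r → A)) (x : Q') (j : Fin r) :
    coord g s (f x) j = ∑ i, s' x i * coord g s (f (gen π i)) j := by
  conv_lhs => rw [← sum_smul_gen h x]
  simp only [map_sum, map_smul, Finset.sum_apply, Pi.smul_apply, smul_eq_mul]

theorem mat_succ {Vs : P →ₗ[W] Dieu.BC σ P} {π : (Fin r → W) →ₗ[W] P} {s : P →ₗ[W] (Fin r → W)}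
    (h : π ∘ₗ s = LinearMap.id) (n : ℕ) : mat Vs π s (n + 1) = mat Vs π s 0 * (mat Vs π s n).map σ := by
  ext i j
  rw [Matrix.mul_apply]
  simp only [Matrix.map_apply, mat, Matrix.of_apply]
  rw [Dieu.vSharpPow_succ_apply, coord_castHom]
  have key : ∀ z : Dieu.BC σ P, coord ((σ).comp (σ ^ (n + 1))) s
      (Dieu.BC.lift σ (Dieu.BC.push (σ ^ (n + 1)) σ) (Dieu.BC.map σ (Dieu.vSharpPow Vs n) z)) j =
      ∑ l, coord σ s z l * σ (coord (σ ^ (n + 1)) s (Dieu.vSharpPow Vs n (gen π l)) j) := by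
    intro z
    induction z using Dieu.BC.induction_on σ with
    | zero => simp
    | tmul b x =>
      rw [Dieu.BC.map_tmul, Dieu.BC.lift_tmul, map_smul, Pi.smul_apply, coord_push, coord_linear _ _ h,
        map_sum, Finset.smul_sum]
      refine Finset.sum_congr rfl fun l _ => ?_
      rw [coord_tmul, map_mul, smul_eq_mul]
      ring
    | add z₁ z₂ h₁ h₂ => simp only [map_add, Pi.add_apply, add_mul, Finset.sum_add_distrib, h₁, h₂]
  rw [key]
  simp only [Dieu.vSharpPow_zero_apply, coord_castHom]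

theorem mat_add {Vs : P →ₗ[W] Dieu.BC σ P} {π : (Fin r → W) →ₗ[W] P} {s : P →ₗ[W] (Fin r → W)}
    (h : π ∘ₗ s = LinearMap.id) (a b : ℕ) :
    mat Vs π s (a + b + 1) = mat Vs π s a * (mat Vs π s b).map (σ ^ (a + 1)) := by
  induction a with
  | zero => rw [zero_add, mat_succ h, zero_add, pow_one]
  | succ a ih =>
    rw [show a + 1 + b + 1 = (a + b + 1) + 1 by ring, mat_succ h (a + b + 1), ih, Matrix.map_mul, ← mul_assoc,
      ← mat_succ h, Matrix.map_map, pow_succ' σ (a + 1)]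
    rfl

theorem forall_mem_iff {Vs : P →ₗ[W] Dieu.BC σ P} {π : (Fin r → W) →ₗ[W] P} {s : P →ₗ[W] (Fin r → W)}
    (h : π ∘ₗ s = LinearMap.id) (I : Ideal W) (n : ℕ) :
    (∀ x : P, Dieu.vSharpPow Vs n x ∈ I • (⊤ : Submodule W (Dieu.BC (σ ^ (n + 1)) P))) ↔
      ∀ i j, mat Vs π s n i j ∈ I := by
  refine ⟨fun hx i j => (mem_smul_top_iff _ h I _).1 (hx _) j, fun hM x => (mem_smul_top_iff _ h I _).2 fun j => ?_⟩
  rw [coord_linear _ _ h]
  exact Ideal.sum_mem _ fun i _ => Ideal.mul_mem_left _ _ (hM i j)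

theorem pow_frobenius_mem {x : W} (hx : x ∈ JV p R) : ∀ k, (σ ^ k) x ∈ JV p R := by
  intro k
  induction k with
  | zero => simpa using hx
  | succ k ih =>
    rw [pow_succ' σ k]
    exact Ideal.map_le_iff_le_comap.1 map_frobenius_JV_le ih

theorem exists_mat_mem {Vs : P →ₗ[W] Dieu.BC σ P} {π : (Fin r → W) →ₗ[W] P} {s : P →ₗ[W] (Fin r → W)}
    (h : π ∘ₗ s = LinearMap.id) (hnil : Dieu.IsVNilpotent Vs) (k : ℕ) :
    ∃ N, ∀ i j, mat Vs π s N i j ∈ JV p R ^ (k + 1) := by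
  obtain ⟨n, hn⟩ := hnil
  have hb := (forall_mem_iff h (JV p R) n).1 hn
  induction k with
  | zero => exact ⟨n, by simpa using hb⟩
  | succ k ih =>
    obtain ⟨a, ha⟩ := ih
    refine ⟨a + n + 1, fun i j => ?_⟩
    rw [mat_add h, Matrix.mul_apply]
    refine Ideal.sum_mem _ fun l _ => ?_
    rw [pow_succ (JV p R)]
    exact Ideal.mul_mem_mul (ha i l) (pow_frobenius_mem (hb l j) _)

theorem exists_le_ker (hp : IsNilpotent (p : R)) (D : W4c1extbt610.Display3n p R P)
    {Vs : P →ₗ[W] Dieu.BC σ P} (hnil : Dieu.IsVNilpotent Vs) (n : ℕ) :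
    ∃ N : ℕ, ∀ x : P, Dieu.vSharpPow Vs N x ∈
      (RingHom.ker (WittVector.truncate (p := p) (R := R) n)) •
        (⊤ : Submodule W (Dieu.BC (σ ^ (N + 1)) P)) := by
  haveI := D.finite
  haveI := D.projective
  obtain ⟨r, π, s, h⟩ := exists_coords W P
  obtain ⟨N, hN⟩ := exists_pow_mem_IV hp
  obtain ⟨M, hM⟩ := exists_mat_mem h hnil (N * (N * n + 1))
  refine ⟨M, (forall_mem_iff h _ M).2 fun i j => ?_⟩
  have h1 : JV p R ^ (N * (N * n + 1) + 1) ≤ RingHom.ker (WittVector.truncate (p := p) (R := R) n) :=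
    (Ideal.pow_le_pow_right (Nat.le_succ _)).trans (by
      rw [pow_mul]
      exact (Ideal.pow_right_mono (JV_pow_le hN) _).trans (IV_pow_le_ker hN n))
  exact h1 (hM i j)

end Groth.Agent.DispTwenty
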