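import Groth.Prelude.Def_W4c1extbt610Disp
import Mathlib

/-!
# Witt vector facts for displays
-/

set_option autoImplicit false
set_option linter.style.haveILetI false
universe u

namespace Groth.Agent.DispTwenty

open WittVector

variable {p : ℕ} [Fact p.Prime] {R : Type u} [CommRing R]

local notation "W" => WittVector p R

theorem mem_IV_of_coeff_zero {x : W} (h : x.coeff 0 = 0) : x ∈ W4c1extbt610.IV p R := by
  have e := eq_iterate_verschiebung (x := x) (n := 1) (fun i hi => by
    obtain rfl : i = 0 := Nat.lt_one_iff.1 hi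
    exact h)
  rw [e, Function.iterate_one]
  exact W4c1extbt610.verschiebung_mem_IV p R _

theorem coeff_zero_of_mem_IV {x : W} (h : x ∈ W4c1extbt610.IV p R) : x.coeff 0 = 0 := by
  induction h using Submodule.span_induction with
  | mem y hy => obtain ⟨w, rfl⟩ := hy; exact verschiebung_coeff_zero w
  | zero => exact map_zero (constantCoeff : W →+* R)
  | add y z _ _ hy hz =>
    show (constantCoeff : W →+* R) (y + z) = 0
    rw [map_add]
    exact (congrArg₂ (· + ·) hy hz).trans (add_zero 0)
  | smul a y _ hy =>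
    show (constantCoeff : W →+* R) (a * y) = 0
    rw [map_mul]
    exact mul_eq_zero_of_right _ hy

theorem exists_verschiebung {x : W} (h : x ∈ W4c1extbt610.IV p R) : ∃ y : W, verschiebung y = x :=
  ⟨x.shift 1, by
    have e := eq_iterate_verschiebung (x := x) (n := 1) (fun i hi => by
      obtain rfl : i = 0 := Nat.lt_one_iff.1 hi
      exact coeff_zero_of_mem_IV h)
    rw [Function.iterate_one] at e
    exact e.symm⟩

theorem verschiebung_frobenius_mul (a c : W) : verschiebung (frobenius c * a) = c * verschiebung a := by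
  rw [mul_comm, verschiebung_mul_frobenius, mul_comm]

theorem verschiebung_natCast_mul (n : ℕ) (a : W) : verschiebung ((n : W) * a) = (n : W) * verschiebung a := by
  rw [← verschiebung_frobenius_mul, map_natCast]

theorem map_frobenius_comm {S : Type u} [CommRing S] (f : R →+* S) (x : W) :
    WittVector.map f (frobenius x) = frobenius (WittVector.map f x) :=
  (frobenius_isPoly p).map f x

theorem frobenius_IV_le {x : W} (h : x ∈ W4c1extbt610.IV p R) : frobenius x ∈ Ideal.span {(p : W)} := by
  obtain ⟨y, rfl⟩ := exists_verschiebung h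
  rw [frobenius_verschiebung]
  exact Ideal.mul_mem_left _ _ (Ideal.subset_span rfl)

/-- The ideal `I + p W`. -/
noncomputable def JV (p : ℕ) [Fact p.Prime] (R : Type u) [CommRing R] : Ideal (WittVector p R) :=
  W4c1extbt610.IV p R ⊔ Ideal.span {(p : WittVector p R)}

theorem map_frobenius_JV_le : (JV p R).map (frobenius : W →+* W) ≤ JV p R := by
  rw [Ideal.map_le_iff_le_comap]
  refine sup_le (fun x hx => (le_sup_right : Ideal.span {(p : W)} ≤ JV p R) (frobenius_IV_le hx)) ?_
  rw [Ideal.span_le, Set.singleton_subset_iff, SetLike.mem_coe, Ideal.mem_comap, map_natCast]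
  exact (le_sup_right : Ideal.span {(p : W)} ≤ JV p R) (Ideal.subset_span rfl)

theorem IV_pow_le (n : ℕ) :
    W4c1extbt610.IV p R ^ (n + 1) ≤ Ideal.span {(p : W) ^ n} * W4c1extbt610.IV p R := by
  induction n with
  | zero => rw [pow_one, pow_zero, Ideal.span_singleton_one, Ideal.top_mul]
  | succ n ih =>
    rw [pow_succ]
    refine (Ideal.mul_mono_left ih).trans ?_
    rw [mul_assoc, pow_succ (p : W), ← Ideal.span_singleton_mul_span_singleton, mul_assoc]
    refine Ideal.mul_mono_right (Ideal.mul_le.2 fun x hx y hy => ?_)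
    obtain ⟨a, rfl⟩ := exists_verschiebung hx
    obtain ⟨b, rfl⟩ := exists_verschiebung hy
    rw [← verschiebung_mul_frobenius, frobenius_verschiebung,
      show a * (b * (p : W)) = (p : W) * (a * b) by ring, verschiebung_natCast_mul]
    exact Ideal.mul_mem_mul (Ideal.subset_span rfl) (W4c1extbt610.verschiebung_mem_IV p R _)

theorem exists_pow_mem_IV (hp : IsNilpotent (p : R)) : ∃ N : ℕ, (p : W) ^ N ∈ W4c1extbt610.IV p R := by
  obtain ⟨N, hN⟩ := hp
  refine ⟨N, mem_IV_of_coeff_zero ?_⟩
  show (constantCoeff : W →+* R) ((p : W) ^ N) = 0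
  rw [map_pow, map_natCast, hN]

theorem exists_iterate_eq {N : ℕ} (hN : (p : W) ^ N ∈ W4c1extbt610.IV p R) :
    ∀ (n : ℕ) (w : W), ∃ x : W, (p : W) ^ (N * n) * w = verschiebung^[n] x := by
  obtain ⟨a, ha⟩ := exists_verschiebung hN
  intro n
  induction n with
  | zero => exact fun w => ⟨w, by simp⟩
  | succ n ih =>
    intro w
    obtain ⟨x, hx⟩ := ih w
    refine ⟨a * frobenius x, ?_⟩
    have hcomm : ∀ (m : ℕ) (y : W), verschiebung^[m] ((p : W) ^ N * y) = (p : W) ^ N * verschiebung^[m] y := by
      intro m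
      induction m with
      | zero => exact fun y => rfl
      | succ m ihm =>
        intro y
        rw [Function.iterate_succ_apply, Function.iterate_succ_apply, ← Nat.cast_pow, verschiebung_natCast_mul,
          Nat.cast_pow, ihm]
    rw [Function.iterate_succ_apply, verschiebung_mul_frobenius, ha, hcomm, ← hx]
    ring

theorem span_pow_le_ker {N : ℕ} (hN : (p : W) ^ N ∈ W4c1extbt610.IV p R) (n : ℕ) :
    Ideal.span {(p : W) ^ (N * n)} ≤ RingHom.ker (truncate (p := p) (R := R) n) := by
  intro x hx
  obtain ⟨w, rfl⟩ := Ideal.mem_span_singleton'.1 hx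
  obtain ⟨y, hy⟩ := exists_iterate_eq hN n w
  rw [mem_ker_truncate]
  intro i hi
  rw [mul_comm, hy]
  exact iterate_verschiebung_coeff_eq_zero y hi

theorem IV_pow_le_ker {N : ℕ} (hN : (p : W) ^ N ∈ W4c1extbt610.IV p R) (n : ℕ) :
    W4c1extbt610.IV p R ^ (N * n + 1) ≤ RingHom.ker (truncate (p := p) (R := R) n) :=
  (IV_pow_le _).trans (Ideal.mul_le_left.trans (span_pow_le_ker hN n))

theorem JV_pow_le {N : ℕ} (hN : (p : W) ^ N ∈ W4c1extbt610.IV p R) : JV p R ^ N ≤ W4c1extbt610.IV p R := by
  have h : ∀ m : ℕ, JV p R ^ m ≤ W4c1extbt610.IV p R ⊔ Ideal.span {(p : W) ^ m} := by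
    intro m
    induction m with
    | zero => rw [pow_zero (p : W), Ideal.span_singleton_one]; exact le_sup_of_le_right le_top
    | succ m ih =>
      rw [pow_succ]
      refine (Ideal.mul_mono_left ih).trans ?_
      rw [JV, Ideal.sup_mul, Ideal.mul_sup, Ideal.mul_sup, Ideal.span_singleton_mul_span_singleton, ← pow_succ]
      exact sup_le (sup_le (le_sup_of_le_left Ideal.mul_le_left) (le_sup_of_le_left Ideal.mul_le_left))
        (sup_le (le_sup_of_le_left Ideal.mul_le_right) le_sup_right)
  refine (h N).trans (sup_le le_rfl ?_)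
  rwa [Ideal.span_le, Set.singleton_subset_iff]

theorem cube_sub_idem {A : Type*} [CommRing A] {a b : A} (ha : IsIdempotentElem a) (hb : IsIdempotentElem b) :
    (a - b) ^ 3 = a - b := by
  have ha' : a * a = a := ha
  have hb' : b * b = b := hb
  linear_combination (a + 1 - 3 * b) * ha' + (3 * a - 1 - b) * hb'

theorem pow_succ_sq_of_cube {A : Type*} [CommRing A] {d : A} (h : d ^ 3 = d) :
    ∀ j, (d * d) ^ (j + 1) = d * d := by
  intro j
  induction j with
  | zero => rw [pow_one]
  | succ j ih =>
    rw [pow_succ, ih]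
    linear_combination d * h

theorem eq_zero_of_cube {A : Type*} [CommRing A] {d : A} (h : d ^ 3 = d) (hn : IsNilpotent d) : d = 0 := by
  obtain ⟨m, hm⟩ := hn
  have h0 : d * d = 0 := by
    rw [← pow_succ_sq_of_cube h m, ← pow_two, ← pow_mul, show 2 * (m + 1) = m + (m + 2) by ring, pow_add, hm, zero_mul]
  rw [← h, show d ^ 3 = d * d * d by ring, h0, zero_mul]

theorem coeff_zero_frobenius_eq {e : W} (hp : IsNilpotent (p : R)) (he : IsIdempotentElem e) :
    (frobenius e).coeff 0 = e.coeff 0 := by
  have h1 : IsIdempotentElem ((frobenius e).coeff 0) :=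
    (he.map (frobenius : W →+* W)).map (constantCoeff : W →+* R)
  have h2 : IsIdempotentElem (e.coeff 0) := he.map (constantCoeff : W →+* R)
  refine sub_eq_zero.1 (eq_zero_of_cube (cube_sub_idem h1 h2) ?_)
  rw [nilpotent_iff_mem_prime]
  intro q hq
  haveI := hq
  haveI hpq : CharP (R ⧸ q) p := (CharP.charP_iff_prime_eq_zero Fact.out).2 (by
    rw [← map_natCast (Ideal.Quotient.mk q), Ideal.Quotient.eq_zero_iff_mem]
    obtain ⟨m, hm⟩ := hp
    exact hq.mem_of_pow_mem m (hm ▸ q.zero_mem))
  rw [← Ideal.Quotient.eq_zero_iff_mem, map_sub, sub_eq_zero, ← WittVector.map_coeff, map_frobenius_comm,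
    coeff_frobenius_charP, ← WittVector.map_coeff]
  have hid : IsIdempotentElem ((WittVector.map (Ideal.Quotient.mk q) e).coeff 0) :=
    (he.map (WittVector.map (Ideal.Quotient.mk q))).map (constantCoeff : WittVector p (R ⧸ q) →+* R ⧸ q)
  exact hid.pow_eq (Fact.out : p.Prime).ne_zero

theorem frobenius_eq_self {e : W} (hp : IsNilpotent (p : R)) (he : IsIdempotentElem e) : frobenius e = e := by
  obtain ⟨N, hN⟩ := exists_pow_mem_IV hp
  have hd3 := cube_sub_idem (he.map (frobenius : W →+* W)) he
  have hd0 : frobenius e - e ∈ W4c1extbt610.IV p R := by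
    refine mem_IV_of_coeff_zero ?_
    show (constantCoeff : W →+* R) (frobenius e - e) = 0
    rw [map_sub, sub_eq_zero]
    exact coeff_zero_frobenius_eq hp he
  generalize hd : frobenius e - e = d at hd3 hd0
  have h0 : d * d = 0 := by
    refine WittVector.ext fun i => ?_
    rw [WittVector.zero_coeff]
    have hmem : d * d ∈ RingHom.ker (truncate (p := p) (R := R) (i + 1)) := by
      rw [← pow_succ_sq_of_cube hd3 (N * (i + 1))]
      exact IV_pow_le_ker hN (i + 1) (Ideal.pow_mem_pow (Ideal.mul_mem_left _ _ hd0) _)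
    exact (mem_ker_truncate _ _).1 hmem i i.lt_succ_self
  have hz : d = 0 := by
    rw [← hd3, show d ^ 3 = d * d * d by ring, h0, zero_mul]
  exact sub_eq_zero.1 (hd.trans hz)

end Groth.Agent.DispTwenty
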