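import Groth.Agent.DispTwenty.Coords
import Groth.Agent.DispTwenty.Witt
import Groth.Prelude.Def_Disp2

/-!
# The operator `V^#` of a 3n-display
-/

set_option autoImplicit false
set_option linter.style.haveILetI false
universe u v

namespace Groth.Agent.DispTwenty

variable {p : ℕ} [Fact p.Prime] {R : Type u} [CommRing R]
  {P : Type v} [AddCommGroup P] [Module (WittVector p R) P] (D : W4c1extbt610.Display3n p R P)

local notation "W" => WittVector p R
local notation "σ" => (WittVector.frobenius : WittVector p R →+* WittVector p R)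

theorem mem_Q_smul {a : W} (ha : a ∈ W4c1extbt610.IV p R) (x : P) : a • x ∈ D.Q :=
  D.IV_smul_le (Submodule.smul_mem_smul ha Submodule.mem_top)

theorem Vinv_V_smul (w : W) (x : P) (h : WittVector.verschiebung w • x ∈ D.Q) :
    D.Vinv ⟨WittVector.verschiebung w • x, h⟩ = w • D.F x :=
  D.Vinv_verschiebung_smul w x

theorem F_eq (y : D.Q) : D.F y = (p : W) • D.Vinv y := by
  have h1 := Vinv_V_smul D 1 (y : P) (D.Q.smul_mem _ y.2)
  rw [one_smul] at h1
  have e : (⟨WittVector.verschiebung 1 • (y : P), D.Q.smul_mem _ y.2⟩ : D.Q) =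
      (WittVector.verschiebung (1 : W)) • y := Subtype.ext (Submodule.coe_smul _ _).symm
  rw [← h1, e, map_smulₛₗ, WittVector.frobenius_verschiebung, one_mul]

/-- A normal decomposition, as a pair of projections. -/
structure Split where
  πL : P →ₗ[W] P
  πT : P →ₗ[W] P
  sum_eq : ∀ x, πL x + πT x = x
  memQ : ∀ x, πL x ∈ D.Q
  L_T : ∀ x, πL (πT x) = 0
  T_smul : ∀ y, y ∈ D.Q → πT y ∈ W4c1extbt610.IV p R • LinearMap.range πT

theorem exists_split : Nonempty (Split D) := by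
  obtain ⟨L, T, hc, hQ⟩ := D.exists_normal
  let e := Submodule.prodEquivOfIsCompl L T hc
  let πL : P →ₗ[W] P := L.subtype ∘ₗ LinearMap.fst W L T ∘ₗ e.symm.toLinearMap
  let πT : P →ₗ[W] P := T.subtype ∘ₗ LinearMap.snd W L T ∘ₗ e.symm.toLinearMap
  have hT : ∀ x ∈ T, πT x = x ∧ πL x = 0 := fun x hx => by
    have : e.symm x = (0, ⟨x, hx⟩) := e.symm_apply_eq.2 (by simp [e])
    simp [πT, πL, this]
  have hL : ∀ x ∈ L, πT x = 0 := fun x hx => by
    have : e.symm x = (⟨x, hx⟩, 0) := e.symm_apply_eq.2 (by simp [e])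
    simp [πT, this]
  refine ⟨⟨πL, πT, fun x => ?_, fun x => hQ ▸ Submodule.mem_sup_left (e.symm x).1.2,
    fun x => (hT _ (e.symm x).2.2).2, fun y hy => ?_⟩⟩
  · conv_rhs => rw [← e.apply_symm_apply x]
    rfl
  · rw [hQ] at hy
    obtain ⟨l, hl, t, ht, rfl⟩ := Submodule.mem_sup.1 hy
    rw [map_add, hL l hl, zero_add]
    refine Submodule.smul_induction_on ht (fun a ha x hx => ?_) (fun x y hx hy => ?_)
    · rw [map_smul]
      exact Submodule.smul_mem_smul ha ⟨x, rfl⟩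
    · rw [map_add]
      exact add_mem hx hy

variable {D}

theorem Split.T_T (S : Split D) (x : P) : S.πT (S.πT x) = S.πT x := by
  have := S.sum_eq (S.πT x)
  rwa [S.L_T, zero_add] at this

/-- `l + t ↦ V⁻¹ l + F t`. -/
noncomputable def Split.phi (S : Split D) : P →ₛₗ[σ] P :=
  D.Vinv.comp (S.πL.codRestrict D.Q S.memQ) + D.F.comp S.πT

theorem Split.phi_apply (S : Split D) (x : P) : S.phi x = D.Vinv ⟨S.πL x, S.memQ x⟩ + D.F (S.πT x) := rfl

/-- `l + t ↦ l + p t`, base changed. -/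
noncomputable def Split.lam (S : Split D) : Dieu.BC σ P →ₗ[W] Dieu.BC σ P :=
  Dieu.BC.map σ (S.πL + (p : W) • S.πT)

theorem Split.phi_smul (S : Split D) (x : P) :
    Dieu.BC.lift σ S.phi (Dieu.BC.tmul σ 1 ((p : W) • S.πL x + S.πT x)) = D.F x := by
  have hLL : S.πL (S.πL x) = S.πL x := by
    have := congrArg S.πL (S.sum_eq x)
    rwa [map_add, S.L_T, add_zero] at this
  have hTL : S.πT (S.πL x) = 0 := by
    have := S.sum_eq (S.πL x)
    rwa [hLL, add_eq_left] at this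
  have e1 : (⟨S.πL ((p : W) • S.πL x + S.πT x), S.memQ _⟩ : D.Q) = (p : W) • ⟨S.πL x, S.memQ x⟩ :=
    Subtype.ext (by simp [map_add, hLL, S.L_T])
  rw [Dieu.BC.lift_tmul, one_smul, S.phi_apply, e1, map_smulₛₗ, map_natCast, ← F_eq D ⟨S.πL x, S.memQ x⟩,
    map_add, map_smul, hTL, smul_zero, zero_add, S.T_T, ← map_add]
  exact congrArg D.F (S.sum_eq x)

theorem Split.exists_Vinv_eq (S : Split D) (y : D.Q) : ∃ z : Dieu.BC σ P,
    Dieu.BC.lift σ S.phi z = D.Vinv y ∧ S.lam z = Dieu.BC.tmul σ 1 (y : P) := by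
  have hT : ∀ t, t ∈ W4c1extbt610.IV p R • LinearMap.range S.πT → ∃ (ht : t ∈ D.Q) (z : Dieu.BC σ P),
      Dieu.BC.lift σ S.phi z = D.Vinv ⟨t, ht⟩ ∧ S.lam z = Dieu.BC.tmul σ 1 t := by
    intro t ht
    refine Submodule.smul_induction_on ht (fun a ha x hx => ?_) (fun x y hx hy => ?_)
    · obtain ⟨x₀, rfl⟩ := hx
      obtain ⟨b, rfl⟩ := exists_verschiebung ha
      refine ⟨mem_Q_smul D ha _, Dieu.BC.tmul σ b (S.πT x₀), ?_, ?_⟩
      · rw [Vinv_V_smul, Dieu.BC.lift_tmul, S.phi_apply,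
          show (⟨S.πL (S.πT x₀), S.memQ _⟩ : D.Q) = 0 from Subtype.ext (S.L_T x₀), map_zero, zero_add, S.T_T]
      · simp only [Split.lam, Dieu.BC.map_tmul, LinearMap.add_apply, S.L_T, zero_add, LinearMap.smul_apply, S.T_T]
        rw [tmul_smul_right, map_natCast, tmul_smul_right, one_mul, WittVector.frobenius_verschiebung]
    · obtain ⟨hx, z₁, h1, h1'⟩ := hx
      obtain ⟨hy, z₂, h2, h2'⟩ := hy
      exact ⟨add_mem hx hy, z₁ + z₂, by rw [map_add, h1, h2, ← map_add]; rfl,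
        by rw [map_add, h1', h2', Dieu.BC.tmul_add]⟩
  obtain ⟨hTy, z, h1, h2⟩ := hT _ (S.T_smul y y.2)
  have hLL : S.πL (S.πL y) = S.πL (y : P) := by
    have := congrArg S.πL (S.sum_eq (y : P))
    rwa [map_add, S.L_T, add_zero] at this
  have hTL : S.πT (S.πL (y : P)) = 0 := by
    have := S.sum_eq (S.πL (y : P))
    rwa [hLL, add_eq_left] at this
  refine ⟨Dieu.BC.tmul σ 1 (S.πL y) + z, ?_, ?_⟩
  · rw [map_add, h1, Dieu.BC.lift_tmul, one_smul, S.phi_apply, hTL, map_zero, add_zero, ← map_add]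
    exact congrArg D.Vinv (Subtype.ext (by simp [hLL, S.sum_eq]))
  · rw [map_add, h2, Split.lam, Dieu.BC.map_tmul, LinearMap.add_apply, LinearMap.smul_apply, hLL, hTL, smul_zero,
      add_zero, ← Dieu.BC.tmul_add, S.sum_eq]

theorem Split.surjective (S : Split D) : Function.Surjective (Dieu.BC.lift σ S.phi) := by
  rw [← LinearMap.range_eq_top, eq_top_iff, ← D.span_range_Vinv, Submodule.span_le]
  rintro _ ⟨y, rfl⟩
  obtain ⟨z, hz, -⟩ := S.exists_Vinv_eq y
  exact ⟨z, hz⟩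

theorem Split.bijective (S : Split D) (hp : IsNilpotent (p : R)) :
    Function.Bijective (Dieu.BC.lift σ S.phi) :=
  haveI := D.finite
  haveI := D.projective
  bijective_of_surjective_of_idem σ (fun _ he => frobenius_eq_self hp he) _ S.surjective

theorem existsUnique_isVSharp (hp : IsNilpotent (p : R)) (D : W4c1extbt610.Display3n p R P) :
    ∃! Vs : P →ₗ[W] Dieu.BC σ P, Dieu.IsVSharp D Vs := by
  obtain ⟨S⟩ := exists_split D
  let e := LinearEquiv.ofBijective _ (S.bijective hp)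
  let Vs := S.lam ∘ₗ e.symm.toLinearMap
  have hVs : ∀ z, Vs (Dieu.BC.lift σ S.phi z) = S.lam z := fun z => congrArg S.lam (e.symm_apply_apply z)
  have hF : ∀ x, Vs (D.F x) = (p : W) • Dieu.BC.tmul σ 1 x := fun x => by
    rw [← S.phi_smul x, hVs, Split.lam, Dieu.BC.map_tmul]
    have hLL : S.πL (S.πL x) = S.πL x := by
      have := congrArg S.πL (S.sum_eq x)
      rwa [map_add, S.L_T, add_zero] at this
    have hTL : S.πT (S.πL x) = 0 := by
      have := S.sum_eq (S.πL x)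
      rwa [hLL, add_eq_left] at this
    have e1 : (S.πL + (p : W) • S.πT) ((p : W) • S.πL x + S.πT x) = (p : W) • x := by
      conv_rhs => rw [← S.sum_eq x, smul_add]
      simp [hLL, hTL, S.L_T, S.T_T]
    rw [e1, tmul_smul_right, map_natCast, one_mul]
  have hV : ∀ y : D.Q, Vs (D.Vinv y) = Dieu.BC.tmul σ 1 (y : P) := fun y => by
    obtain ⟨z, h1, h2⟩ := S.exists_Vinv_eq y
    rw [← h1, hVs, h2]
  refine ⟨Vs, ⟨fun w x => ?_, fun w y => ?_⟩, fun V' h' => ?_⟩
  · rw [map_smul, hF, smul_comm, Dieu.BC.smul_tmul, mul_one]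
  · rw [map_smul, hV, Dieu.BC.smul_tmul, mul_one]
  · refine LinearMap.ext_on_range D.span_range_Vinv fun y => ?_
    have := h'.app_smul_Vinv 1 y
    rw [one_smul] at this
    rw [this, hV]

theorem isVSharp_comp (D : W4c1extbt610.Display3n p R P) {Vs : P →ₗ[W] Dieu.BC σ P} (h : Dieu.IsVSharp D Vs) :
    (Dieu.BC.lift σ D.F).comp Vs = (p : W) • LinearMap.id ∧ Vs.comp (Dieu.BC.lift σ D.F) = (p : W) • LinearMap.id := by
  refine ⟨LinearMap.ext_on_range D.span_range_Vinv fun y => ?_, Dieu.BC.ext σ fun x => ?_⟩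
  · have := h.app_smul_Vinv 1 y
    rw [one_smul] at this
    rw [LinearMap.comp_apply, this, Dieu.BC.lift_tmul, one_smul, F_eq]
    rfl
  · rw [LinearMap.comp_apply, Dieu.BC.lift_tmul, h.app_smul_F]
    rfl

end Groth.Agent.DispTwenty
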